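import Mathlib
import Cfsg.Agent.Lib.AutSL2Out
import Cfsg.Agent.ClassicalGeometry.SL2Order
import Cfsg.Agent.ClassicalGeometry.NonsplitTorus
set_option linter.all false

-- part: LFourR/Arith
section
/-!
Arithmetic: an element of order the odd part of `q - ε` in a group of elements over a subfield with `q0` elements,
`q = q0 ^ m`, forces `m = 1`.
-/

set_option autoImplicit false

namespace Cfsg.Agent.LFourR.Arith

/-- `1 + Q + ... + Q ^ (m-1)` is odd for `Q`, `m` odd -/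
theorem odd_geom (Q : ℤ) (hQ : Odd Q) (m : ℕ) : Odd (∑ i ∈ Finset.range m, Q ^ i) ↔ Odd m := by
  induction m with
  | zero => simp
  | succ n ih =>
    rw [Finset.sum_range_succ]
    have h1 : Odd (Q ^ n) := hQ.pow
    rw [Int.odd_add, ih]
    constructor
    · intro h
      rw [Nat.odd_add_one, Nat.not_odd_iff_even]
      by_contra hc
      rw [Nat.not_even_iff_odd] at hc
      exact Int.not_even_iff_odd.2 h1 (h.1 hc)
    · intro h
      rw [Nat.odd_add_one, Nat.not_odd_iff_even] at h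
      constructor
      · intro h2; exact absurd h (Nat.not_even_iff_odd.2 h2)
      · intro h2; exact absurd h2 (Int.not_even_iff_odd.2 h1)

theorem dvd_of_mul_pow_two {S N : ℤ} {r : ℤ} {k : ℕ} (hS : Odd S) (h : r * S = N * 2 ^ k) : ∃ r', r = r' * 2 ^ k ∧ r' * S = N := by
  have h1 : (2 : ℤ) ^ k ∣ r * S := ⟨N, by rw [h]; ring⟩
  have h2 : IsCoprime ((2 : ℤ) ^ k) S := by
    apply IsCoprime.pow_left
    exact (Int.isCoprime_iff_gcd_eq_one.2 (by
      rw [Int.gcd_comm]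
      obtain ⟨s, rfl⟩ := hS
      have : IsCoprime (2 * s + 1) (2 : ℤ) := ⟨1, -s, by ring⟩
      exact Int.isCoprime_iff_gcd_eq_one.1 this))
  obtain ⟨r', hr'⟩ := h2.dvd_of_dvd_mul_right h1
  refine ⟨r', by rw [hr']; ring, ?_⟩
  have h3 : (2 : ℤ) ^ k ≠ 0 := by positivity
  apply mul_left_cancel₀ h3
  rw [← mul_assoc, ← hr', h]; ring

theorem arith (q0 m N k : ℕ) (ε : ℤ) (hε : ε = 1 ∨ ε = -1) (hq0 : Odd q0) (h3 : 3 ≤ q0) (hm : 1 ≤ m)
    (hN : Odd N) (hN1 : 1 < N) (h : ((q0 : ℤ) ^ m) - ε = N * 2 ^ k) (hns : ε = 1 → Odd m)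
    (hdiv : (N : ℤ) ∣ q0 - 1 ∨ (N : ℤ) ∣ q0 + 1) : m = 1 := by
  have hN2 : ¬ (N : ℤ) ∣ 2 := by
    intro hd
    have : N ∣ 2 := by exact_mod_cast hd
    have hle := Nat.le_of_dvd (by norm_num) this
    have : N = 2 := by omega
    subst this
    exact absurd hN (by decide)
  have hNq : (N : ℤ) ∣ (q0 : ℤ) ^ m - ε := ⟨2 ^ k, h⟩
  have hsq : ε * ε = 1 := by rcases hε with rfl | rfl <;> norm_num
  -- the sign of `q0` modulo `N`
  obtain ⟨δ, hδ, hδN⟩ : ∃ δ : ℤ, (δ = 1 ∨ δ = -1) ∧ (N : ℤ) ∣ q0 - δ := by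
    rcases hdiv with h | h
    · exact ⟨1, Or.inl rfl, h⟩
    · exact ⟨-1, Or.inr rfl, by rwa [sub_neg_eq_add]⟩
  have hpow : (N : ℤ) ∣ (q0 : ℤ) ^ m - δ ^ m := hδN.trans (sub_dvd_pow_sub_pow _ _ _)
  have hεδ : (N : ℤ) ∣ ε - δ ^ m := by
    have := dvd_sub hpow hNq
    have e : (q0 : ℤ) ^ m - δ ^ m - ((q0 : ℤ) ^ m - ε) = ε - δ ^ m := by ring
    rwa [e] at this
  have hcase : ε = δ ^ m := by
    rcases hε with rfl | rfl <;> rcases hδ with rfl | rfl
    · simp
    · rcases Nat.even_or_odd m with h2 | h2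
      · rw [h2.neg_one_pow]
      · rw [h2.neg_one_pow] at hεδ; exact absurd hεδ (by norm_num; exact hN2)
    · rw [one_pow] at hεδ
      exact absurd ((dvd_neg.2 hεδ)) (by norm_num; exact hN2)
    · rcases Nat.even_or_odd m with h2 | h2
      · rw [h2.neg_one_pow] at hεδ
        exact absurd ((dvd_neg.2 hεδ)) (by norm_num; exact hN2)
      · rw [h2.neg_one_pow]
  have hmo : Odd m := by
    rcases hε with rfl | rfl
    · exact hns rfl
    · by_contra hc
      rw [Nat.not_odd_iff_even] at hc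
      rcases hδ with rfl | rfl
      · rw [one_pow] at hcase; norm_num at hcase
      · rw [hc.neg_one_pow] at hcase; norm_num at hcase
  have hδε : δ = ε := by
    rcases hδ with rfl | rfl
    · rw [one_pow] at hcase; exact hcase.symm
    · rw [hmo.neg_one_pow] at hcase; exact hcase.symm
  subst hδε
  set Q : ℤ := δ * q0 with hQ
  have hQodd : Odd Q := by
    rcases hε with rfl | rfl
    · rw [hQ, one_mul]; exact_mod_cast hq0
    · rw [hQ, neg_one_mul]; exact (by exact_mod_cast hq0 : Odd (q0 : ℤ)).neg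
  set S : ℤ := ∑ i ∈ Finset.range m, Q ^ i with hS
  have hSo : Odd S := (odd_geom Q hQodd m).2 hmo
  have hgeom : S * (Q - 1) = Q ^ m - 1 := geom_sum_mul Q m
  have hQm : Q ^ m = δ * (q0 : ℤ) ^ m := by
    rw [hQ, mul_pow]
    congr 1
    exact hcase.symm
  have e1 : (q0 - δ) * S = N * 2 ^ k := by
    rw [← h]
    have : (q0 - δ) = δ * (Q - 1) := by rw [hQ]; linear_combination (- (q0 : ℤ)) * hsq
    rw [this]
    have : δ * (Q - 1) * S = δ * (S * (Q - 1)) := by ring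
    rw [this, hgeom, hQm]
    linear_combination ((q0 : ℤ) ^ m) * hsq
  obtain ⟨r, hr1, hr2⟩ := dvd_of_mul_pow_two hSo e1
  -- `N = r S` divides `q0 - δ = r 2 ^ k`
  have hr0 : r ≠ 0 := by
    rintro rfl
    rw [zero_mul] at hr2
    have : N = 0 := by exact_mod_cast hr2.symm
    omega
  have hSd : S ∣ 2 ^ k := by
    have h1 : r * S ∣ r * 2 ^ k := by rw [hr2, ← hr1]; exact hδN
    exact (mul_dvd_mul_iff_left hr0).1 h1
  have hSu : IsUnit S := by
    obtain ⟨s, hs⟩ := hSo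
    have hcop : IsCoprime S ((2 : ℤ) ^ k) := by
      apply IsCoprime.pow_right
      exact ⟨1, -s, by rw [hs]; ring⟩
    exact hcop.isUnit_of_dvd' dvd_rfl hSd
  have habs : |S| = 1 := Int.isUnit_iff_abs_eq.1 hSu
  -- size
  by_contra hm1
  have hm3 : 3 ≤ m := by
    obtain ⟨t, ht⟩ := hmo
    omega
  have hQabs : |Q| = q0 := by
    rw [hQ, abs_mul, Nat.abs_cast]
    rcases hε with rfl | rfl <;> simp
  have h4 : |Q ^ m - 1| = |Q - 1| := by rw [← hgeom, abs_mul, habs, one_mul]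
  have h5 : |Q - 1| ≤ q0 + 1 := by
    calc |Q - 1| ≤ |Q| + |(1 : ℤ)| := abs_sub _ _
      _ = q0 + 1 := by rw [hQabs, abs_one]
  have h6 : (q0 : ℤ) ^ m - 1 ≤ |Q ^ m - 1| := by
    calc (q0 : ℤ) ^ m - 1 = |Q ^ m| - |(1 : ℤ)| := by rw [abs_pow, hQabs, abs_one]
      _ ≤ |Q ^ m - 1| := abs_sub_abs_le_abs_sub _ _
  have h7 : (q0 : ℤ) ^ 3 ≤ (q0 : ℤ) ^ m := pow_le_pow_right₀ (by exact_mod_cast (by omega : 1 ≤ q0)) hm3
  have h8 : (3 : ℤ) ≤ q0 := by exact_mod_cast h3
  nlinarith [h4, h5, h6, h7, h8, mul_self_nonneg ((q0 : ℤ) - 3)]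

end Cfsg.Agent.LFourR.Arith
end

-- part: LFourR/FieldPart
section
/-!
Automorphisms of `SL(2, F)` centralising an element whose order is the odd part of `q - ε`: no field automorphisms.
-/

set_option autoImplicit false

namespace Cfsg.Agent.LFourR.FieldPart

open Matrix Cfsg.Agent.Lib.SL2Mat Cfsg.Agent.Lib.AutSL2 Cfsg.Agent.Lib.AutSL2Out

variable {F : Type*} [Field F]

/-- the companion matrix -/
def comp (τ : F) : Matrix.SpecialLinearGroup (Fin 2) F := mk 0 (-1) 1 τ (by ring)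

theorem coe_mk (a b c d : F) (h : a * d - b * c = 1) : (mk a b c d h).1 = !![a, b; c, d] := rfl

theorem val_pow (a : Matrix.SpecialLinearGroup (Fin 2) F) (n : ℕ) : (a ^ n).1 = a.1 ^ n :=
  Matrix.SpecialLinearGroup.coe_pow a n

theorem val_one : (1 : Matrix.SpecialLinearGroup (Fin 2) F).1 = 1 := Matrix.SpecialLinearGroup.coe_one

theorem val_mul (a b : Matrix.SpecialLinearGroup (Fin 2) F) : (a * b).1 = a.1 * b.1 :=
  Matrix.SpecialLinearGroup.coe_mul a b

/-- a non-scalar matrix is conjugate to the companion matrix -/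
theorem exists_conj_comp (a : Matrix.SpecialLinearGroup (Fin 2) F)
    (ha : ∀ c : F, a.1 ≠ c • (1 : Matrix (Fin 2) (Fin 2) F)) :
    ∃ P : GL (Fin 2) F, a.1 * P.1 = P.1 * (comp a.1.trace).1 := by
  have hd := a.2
  rw [det_fin_two] at hd
  have key : ∀ v0 v1 : F, v0 * (a.1 1 0 * v0 + a.1 1 1 * v1) - v1 * (a.1 0 0 * v0 + a.1 0 1 * v1) ≠ 0 →
      ∃ P : GL (Fin 2) F, a.1 * P.1 = P.1 * (comp a.1.trace).1 := by
    intro v0 v1 hv
    refine ⟨GeneralLinearGroup.mkOfDetNeZero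
      !![v0, a.1 0 0 * v0 + a.1 0 1 * v1; v1, a.1 1 0 * v0 + a.1 1 1 * v1] ?_, ?_⟩
    · rw [det_fin_two_of]
      intro h
      apply hv
      linear_combination h
    · change a.1 * !![v0, a.1 0 0 * v0 + a.1 0 1 * v1; v1, a.1 1 0 * v0 + a.1 1 1 * v1] =
        !![v0, a.1 0 0 * v0 + a.1 0 1 * v1; v1, a.1 1 0 * v0 + a.1 1 1 * v1] * !![0, -1; 1, a.1.trace]
      rw [trace_fin_two]
      ext i j
      fin_cases i <;> fin_cases j <;> simp [Matrix.mul_apply, Fin.sum_univ_two]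
      · linear_combination (-v0) * hd
      · linear_combination (-v1) * hd
  by_cases h10 : a.1 1 0 = 0
  · by_cases h01 : a.1 0 1 = 0
    · apply key 1 1
      rw [h10, h01]
      intro h
      apply ha (a.1 0 0)
      have h2 : a.1 1 1 = a.1 0 0 := by linear_combination h
      ext i j
      fin_cases i <;> fin_cases j <;> simp [h10, h01, h2]
    · apply key 0 1
      intro h
      apply h01
      linear_combination -h
  · apply key 1 0
    intro h
    apply h10
    linear_combination h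

theorem pow_eq_one_iff_comp (a : Matrix.SpecialLinearGroup (Fin 2) F)
    (ha : ∀ c : F, a.1 ≠ c • (1 : Matrix (Fin 2) (Fin 2) F)) (n : ℕ) :
    a ^ n = 1 ↔ comp a.1.trace ^ n = 1 := by
  obtain ⟨P, hP⟩ := exists_conj_comp a ha
  have h1 : a.1 ^ n * P.1 = P.1 * (comp a.1.trace).1 ^ n := by
    induction n with
    | zero => simp
    | succ n ih =>
      rw [pow_succ, Matrix.mul_assoc, hP, ← Matrix.mul_assoc, ih, Matrix.mul_assoc, ← pow_succ]
  have hPP : P.1 * (P⁻¹).1 = 1 := P.mul_inv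
  have hPP' : (P⁻¹).1 * P.1 = 1 := P.inv_mul
  constructor
  · intro h
    have h2 : a.1 ^ n = 1 := by
      rw [← val_pow, h, val_one]
    rw [h2, one_mul] at h1
    apply Subtype.ext
    rw [val_pow, val_one]
    calc (comp a.1.trace).1 ^ n = (P⁻¹).1 * P.1 * (comp a.1.trace).1 ^ n := by rw [hPP', one_mul]
      _ = 1 := by rw [Matrix.mul_assoc, ← h1, hPP']
  · intro h
    have h2 : (comp a.1.trace).1 ^ n = 1 := by
      rw [← val_pow, h, val_one]
    rw [h2, mul_one] at h1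
    apply Subtype.ext
    rw [val_pow, val_one]
    calc a.1 ^ n = a.1 ^ n * (P.1 * (P⁻¹).1) := by rw [hPP, mul_one]
      _ = 1 := by rw [← Matrix.mul_assoc, h1, hPP]

/-- a scalar matrix in `SL(2, F)` squares to one -/
theorem sq_eq_one_of_scalar (a : Matrix.SpecialLinearGroup (Fin 2) F) (c : F)
    (h : a.1 = c • (1 : Matrix (Fin 2) (Fin 2) F)) : a ^ 2 = 1 := by
  rcases Cfsg.Agent.ClassicalGeometry.NonsplitTorus.eq_one_or_of_smul a c h with rfl | rfl
  · simp
  · simp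

theorem ne_scalar_of_orderOf {a : Matrix.SpecialLinearGroup (Fin 2) F} {N : ℕ} (ha : orderOf a = N) (hN : Odd N)
    (hN1 : 1 < N) (c : F) : a.1 ≠ c • (1 : Matrix (Fin 2) (Fin 2) F) := by
  intro h
  have h1 := orderOf_dvd_of_pow_eq_one (sq_eq_one_of_scalar a c h)
  rw [ha] at h1
  have hle := Nat.le_of_dvd (by norm_num) h1
  have : N = 2 := by omega
  subst this
  exact absurd hN (by decide)

variable [Fintype F]

theorem ringEquiv_eq_one (a : Matrix.SpecialLinearGroup (Fin 2) F) {N k : ℕ} {ε : ℤ} (hε : ε = 1 ∨ ε = -1)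
    (ha : orderOf a = N) (hN : Odd N) (hN1 : 1 < N) (hq : Odd (Fintype.card F))
    (h : (Fintype.card F : ℤ) - ε = N * 2 ^ k) (hns : ε = 1 → ¬ IsSquare (Fintype.card F))
    (σ : F ≃+* F) (hσ : σ a.1.trace = a.1.trace) : σ = 1 := by
  classical
  obtain ⟨p, hpc⟩ := CharP.exists F
  have : CharP F p := hpc
  have hp : Fact p.Prime := ⟨CharP.char_is_prime F p⟩
  let K : Subfield F := (σ : F →+* F).eqLocusField (RingHom.id F)
  have hK : ∀ x : F, x ∈ K ↔ σ x = x := fun x => Iff.rfl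
  have hcard : Fintype.card F = (Fintype.card K) ^ (Module.finrank K F) := Module.card_eq_pow_finrank
  set q0 := Fintype.card K with hq0
  set m := Module.finrank K F with hm
  have hm1 : 1 ≤ m := Module.finrank_pos
  have hq0o : Odd q0 := by
    rw [hcard] at hq
    exact Nat.Odd.of_mul_left (m := q0) (n := q0 ^ (m - 1)) (by rwa [← pow_succ', Nat.sub_add_cancel hm1])
  have hq03 : 3 ≤ q0 := by
    have : 1 < q0 := Fintype.one_lt_card
    obtain ⟨t, ht⟩ := hq0o
    omega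
  have hsc := ne_scalar_of_orderOf ha hN hN1
  -- the companion matrix over `K`
  let τ : K := ⟨a.1.trace, (hK _).2 hσ⟩
  let b : Matrix.SpecialLinearGroup (Fin 2) K := mk 0 (-1) 1 τ (by ring)
  have hmap : SpecialLinearGroup.map K.subtype b = comp a.1.trace := by
    apply ext_ent
    · change K.subtype 0 = 0; simp
    · change K.subtype (-1) = -1; simp
    · change K.subtype 1 = 1; simp
    · rfl
  have hpow : ∀ n : ℕ, b ^ n = 1 → N ∣ n := by
    intro n hn
    rw [← ha]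
    apply orderOf_dvd_of_pow_eq_one
    rw [pow_eq_one_iff_comp a hsc, ← hmap, ← map_pow, hn, map_one]
  have : CharP K p := (algebraMap K F).charP (algebraMap K F).injective p
  have hNp : ¬ p ∣ N := by
    intro hd
    have h1 : (p : ℤ) ∣ (Fintype.card F : ℤ) - ε := by
      rw [h]; exact dvd_mul_of_dvd_left (by exact_mod_cast hd) _
    have h2 : (p : ℤ) ∣ (Fintype.card F : ℤ) := by
      obtain ⟨n, hn, hn'⟩ := FiniteField.card F p
      rw [hn']
      exact_mod_cast dvd_pow_self p n.pos.ne'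
    have h3 : (p : ℤ) ∣ ε := by
      have := dvd_sub h2 h1
      simpa using this
    have h4 : (p : ℤ) ∣ 1 := by
      rcases hε with rfl | rfl
      · exact h3
      · exact (Int.dvd_neg).1 h3
    have h5 : p ∣ 1 := by exact_mod_cast h4
    exact hp.out.one_lt.ne' (Nat.dvd_one.1 h5)
  have hdiv : (N : ℤ) ∣ q0 - 1 ∨ (N : ℤ) ∣ q0 + 1 := by
    rcases Cfsg.Agent.ClassicalGeometry.SL2Order.pow_cases (q := q0) rfl p b with h1 | h1 | h1
    · left
      have := hpow _ h1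
      have h2 : ((q0 - 1 : ℕ) : ℤ) = (q0 : ℤ) - 1 := by omega
      rw [← h2]; exact_mod_cast this
    · right
      exact_mod_cast hpow _ h1
    · exfalso
      have h2 := hpow _ h1
      have h3 : Nat.Coprime N 2 := Nat.coprime_two_right.2 hN
      have h4 : N ∣ p := h3.dvd_of_dvd_mul_left h2
      rcases (Nat.dvd_prime hp.out).1 h4 with h5 | h5
      · omega
      · exact hNp (h5 ▸ dvd_rfl)
  have hm1' : m = 1 := by
    refine Arith.arith q0 m N k ε hε hq0o hq03 hm1 hN hN1 ?_ ?_ hdiv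
    · rw [← h, hcard]; push_cast; ring
    · intro he
      by_contra hc
      rw [Nat.not_odd_iff_even] at hc
      obtain ⟨t, ht⟩ := hc
      exact hns he ⟨q0 ^ t, by rw [hcard, ht, pow_add]⟩
  -- `K` is everything
  have hKcard : Fintype.card K = Fintype.card F := by rw [hcard, hm1', pow_one]
  have hKtop : ∀ x : F, x ∈ K := by
    intro x
    have hsurj : Function.Surjective (K.subtype : K → F) :=
      ((Fintype.bijective_iff_injective_and_card _).2 ⟨K.subtype.injective, hKcard⟩).2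
    obtain ⟨y, hy⟩ := hsurj x
    rw [← hy]; exact y.2
  ext x
  exact (hK x).1 (hKtop x)

end Cfsg.Agent.LFourR.FieldPart
end

-- part: LFourR/Mat2
section
/-!
`2 × 2` matrices: conjugacy, norm forms, and elements of `SL(2, F)` inducing given conjugations.
-/

set_option autoImplicit false

namespace Cfsg.Agent.LFourR.Mat2

open Matrix Cfsg.Agent.Lib.SL2Mat Cfsg.Agent.Lib.AutSL2 Cfsg.Agent.Lib.AutSL2Out
open Cfsg.Agent.LFourR.FieldPart (val_mul val_one val_pow)

variable {F : Type*} [Field F]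

/-- scalar matrices -/
def IsSc (M : Matrix (Fin 2) (Fin 2) F) : Prop := ∃ c : F, M = c • (1 : Matrix (Fin 2) (Fin 2) F)

theorem isSc_of_entries {M : Matrix (Fin 2) (Fin 2) F} (h01 : M 0 1 = 0) (h10 : M 1 0 = 0) (h : M 1 1 = M 0 0) :
    IsSc M := by
  refine ⟨M 0 0, ?_⟩
  ext i j
  fin_cases i <;> fin_cases j <;> simp [h01, h10, h]

theorem exists_conj_comp (M : Matrix (Fin 2) (Fin 2) F) (hM : ¬ IsSc M) :
    ∃ P : GL (Fin 2) F, M * P.1 = P.1 * !![0, -M.det; 1, M.trace] := by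
  have key : ∀ v0 v1 : F, v0 * (M 1 0 * v0 + M 1 1 * v1) - v1 * (M 0 0 * v0 + M 0 1 * v1) ≠ 0 →
      ∃ P : GL (Fin 2) F, M * P.1 = P.1 * !![0, -M.det; 1, M.trace] := by
    intro v0 v1 hv
    refine ⟨GeneralLinearGroup.mkOfDetNeZero
      !![v0, M 0 0 * v0 + M 0 1 * v1; v1, M 1 0 * v0 + M 1 1 * v1] ?_, ?_⟩
    · rw [det_fin_two_of]
      intro h
      apply hv
      linear_combination h
    · change M * !![v0, M 0 0 * v0 + M 0 1 * v1; v1, M 1 0 * v0 + M 1 1 * v1] =
        !![v0, M 0 0 * v0 + M 0 1 * v1; v1, M 1 0 * v0 + M 1 1 * v1] * !![0, -M.det; 1, M.trace]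
      rw [trace_fin_two, det_fin_two]
      ext i j
      fin_cases i <;> fin_cases j <;> simp [Matrix.mul_apply, Fin.sum_univ_two]
      · ring
      · ring
  by_cases h10 : M 1 0 = 0
  · by_cases h01 : M 0 1 = 0
    · apply key 1 1
      rw [h10, h01]
      intro h
      apply hM
      exact isSc_of_entries h01 h10 (by linear_combination h)
    · apply key 0 1
      intro h
      apply h01
      linear_combination -h
  · apply key 1 0
    intro h
    apply h10
    linear_combination h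

theorem exists_conj_of_same {M M' : Matrix (Fin 2) (Fin 2) F} (hM : ¬ IsSc M) (hM' : ¬ IsSc M')
    (hd : M.det = M'.det) (ht : M.trace = M'.trace) : ∃ g : GL (Fin 2) F, M * g.1 = g.1 * M' := by
  obtain ⟨P, hP⟩ := exists_conj_comp M hM
  obtain ⟨P', hP'⟩ := exists_conj_comp M' hM'
  refine ⟨P * P'⁻¹, ?_⟩
  have e1 : M' * P'.1 * P'⁻¹.1 = M' := by
    rw [Matrix.mul_assoc]
    have : P'.1 * P'⁻¹.1 = 1 := P'.mul_inv
    rw [this, Matrix.mul_one]
  change M * (P.1 * P'⁻¹.1) = P.1 * P'⁻¹.1 * M'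
  calc M * (P.1 * P'⁻¹.1) = (M * P.1) * P'⁻¹.1 := by rw [Matrix.mul_assoc]
    _ = P.1 * !![0, -M.det; 1, M.trace] * P'⁻¹.1 := by rw [hP]
    _ = P.1 * (P'⁻¹.1 * P'.1 * !![0, -M'.det; 1, M'.trace]) * P'⁻¹.1 := by
        rw [inv_val_mul_val, Matrix.one_mul, hd, ht]
    _ = P.1 * (P'⁻¹.1 * (P'.1 * !![0, -M'.det; 1, M'.trace])) * P'⁻¹.1 := by
        rw [Matrix.mul_assoc P'⁻¹.1]
    _ = P.1 * (P'⁻¹.1 * (M' * P'.1)) * P'⁻¹.1 := by rw [← hP']
    _ = P.1 * P'⁻¹.1 * (M' * P'.1 * P'⁻¹.1) := by simp only [Matrix.mul_assoc]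
    _ = P.1 * P'⁻¹.1 * M' := by rw [e1]

theorem exists_norm [Fintype F] (hq : Odd (Fintype.card F)) (δ c : F) (hδ : δ ≠ 0) :
    ∃ x y : F, x ^ 2 + δ * y ^ 2 = c := by
  classical
  open Polynomial in
  obtain ⟨x, y, h⟩ := FiniteField.exists_root_sum_quadratic (R := F) (f := X ^ 2) (g := C δ * X ^ 2 + C 0 * X + C (-c))
    (degree_X_pow 2) (degree_quadratic hδ) (Nat.odd_iff.1 hq)
  refine ⟨x, y, ?_⟩
  simp only [Polynomial.eval_pow, Polynomial.eval_X, Polynomial.eval_add, Polynomial.eval_mul, Polynomial.eval_C] at h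
  linear_combination h

theorem det_lin (P : Matrix (Fin 2) (Fin 2) F) (x y : F) :
    (x • (1 : Matrix (Fin 2) (Fin 2) F) + y • P).det = x ^ 2 + x * y * P.trace + y ^ 2 * P.det := by
  rw [det_fin_two, det_fin_two, trace_fin_two]
  simp
  ring

/-- same determinant and trace zero: conjugate by an element of `SL(2, F)` -/
theorem exists_sl_conj [Fintype F] (hq : Odd (Fintype.card F)) {M M' : Matrix (Fin 2) (Fin 2) F}
    (hM : ¬ IsSc M) (hM' : ¬ IsSc M') (hd : M.det = M'.det) (ht : M.trace = 0) (ht' : M'.trace = 0)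
    (hd0 : M.det ≠ 0) :
    ∃ s : Matrix.SpecialLinearGroup (Fin 2) F, M * s.1 = s.1 * M' := by
  obtain ⟨g, hg⟩ := exists_conj_of_same hM hM' hd (ht.trans ht'.symm)
  have hgd : g.1.det ≠ 0 := (Matrix.GeneralLinearGroup.det g).ne_zero
  obtain ⟨x, y, hxy⟩ := exists_norm hq M.det (g.1.det)⁻¹ hd0
  refine ⟨⟨(x • (1 : Matrix (Fin 2) (Fin 2) F) + y • M) * g.1, ?_⟩, ?_⟩
  · rw [det_mul, det_lin, ht]
    have : x ^ 2 + x * y * 0 + y ^ 2 * M.det = (g.1.det)⁻¹ := by rw [← hxy]; ring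
    rw [this, inv_mul_cancel₀ hgd]
  · change M * ((x • (1 : Matrix (Fin 2) (Fin 2) F) + y • M) * g.1) =
      (x • (1 : Matrix (Fin 2) (Fin 2) F) + y • M) * g.1 * M'
    rw [← Matrix.mul_assoc, Matrix.mul_assoc _ g.1 M', ← hg, ← Matrix.mul_assoc]
    congr 1
    rw [Matrix.mul_add, Matrix.add_mul, Matrix.mul_smul, Matrix.mul_smul, Matrix.smul_mul, Matrix.smul_mul,
      Matrix.mul_one, Matrix.one_mul]

theorem conjGL_eq_iff (g : GL (Fin 2) F) (x y : Matrix.SpecialLinearGroup (Fin 2) F) :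
    conjGL g x = y ↔ g.1 * x.1 = y.1 * g.1 := by
  constructor
  · rintro rfl
    rw [conjGL_val, Matrix.mul_assoc, inv_val_mul_val, Matrix.mul_one]
  · intro h
    apply Subtype.ext
    rw [conjGL_val, h, Matrix.mul_assoc]
    have : g.1 * g⁻¹.1 = 1 := g.mul_inv
    rw [this, Matrix.mul_one]

theorem isSc_of_conjGL_eq_one {g : GL (Fin 2) F} (h : conjGL g = 1) : IsSc g.1 := by
  have h1 : g.1 * (up (1 : F)).1 = (up (1 : F)).1 * g.1 := (conjGL_eq_iff _ _ _).1 (by rw [h]; rfl)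
  have h2 : g.1 * (lo (1 : F)).1 = (lo (1 : F)).1 * g.1 := (conjGL_eq_iff _ _ _).1 (by rw [h]; rfl)
  have hu : (up (1 : F)).1 = !![1, 1; 0, 1] := rfl
  have hl : (lo (1 : F)).1 = !![1, 0; 1, 1] := rfl
  rw [hu] at h1
  rw [hl] at h2
  have a1 := congrFun (congrFun h1 0) 0
  have a2 := congrFun (congrFun h1 0) 1
  have a3 := congrFun (congrFun h2 0) 0
  simp [Matrix.mul_apply, Fin.sum_univ_two] at a1 a2 a3
  exact isSc_of_entries a3 a1 (by linear_combination -a2)

theorem conjGL_eq_one_of_isSc {g : GL (Fin 2) F} (h : IsSc g.1) : conjGL g = 1 := by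
  obtain ⟨c, hc⟩ := h
  apply MulEquiv.ext
  intro x
  rw [conjGL_eq_iff, hc]
  simp

theorem not_isSc_smul {M : Matrix (Fin 2) (Fin 2) F} (h : ¬ IsSc M) {c : F} (hc : c ≠ 0) : ¬ IsSc (c • M) := by
  rintro ⟨d, hd⟩
  apply h
  refine ⟨c⁻¹ * d, ?_⟩
  rw [← smul_smul, ← hd, smul_smul, inv_mul_cancel₀ hc, one_smul]

/-- the square of a non-scalar matrix is scalar only if its trace is zero -/
theorem trace_eq_zero_of_sq {M : Matrix (Fin 2) (Fin 2) F} (h : ¬ IsSc M) (h2 : IsSc (M * M)) : M.trace = 0 := by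
  by_contra ht
  apply h
  obtain ⟨c, hc⟩ := h2
  rw [Cfsg.Agent.ClassicalGeometry.NonsplitTorus.mul_self_eq] at hc
  refine ⟨(M.trace)⁻¹ * (c + M.det), ?_⟩
  have : M.trace • M = (c + M.det) • (1 : Matrix (Fin 2) (Fin 2) F) := by
    rw [add_smul, ← hc, sub_add_cancel]
  rw [← smul_smul, ← this, smul_smul, inv_mul_cancel₀ ht, one_smul]

/-- elements of `F[M]` commute -/
theorem comm_lin (M : Matrix (Fin 2) (Fin 2) F) (x y u v : F) :
    (x • (1 : Matrix (Fin 2) (Fin 2) F) + y • M) * (u • (1 : Matrix (Fin 2) (Fin 2) F) + v • M) =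
      (u • (1 : Matrix (Fin 2) (Fin 2) F) + v • M) * (x • (1 : Matrix (Fin 2) (Fin 2) F) + y • M) := by
  simp only [Matrix.mul_add, Matrix.add_mul, Matrix.mul_smul, Matrix.smul_mul, Matrix.mul_one, Matrix.one_mul,
    smul_smul, smul_add]
  rw [mul_comm u x, mul_comm v x, mul_comm u y, mul_comm v y]
  abel

end Cfsg.Agent.LFourR.Mat2
end
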