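import Mathlib
import Cfsg.Agent.Lib.PSL2Outer
import Cfsg.Agent.LFourA.FieldInv
import Cfsg.Agent.LFourR.Mat2
import Cfsg.Agent.GH.Q2.ModelSp4_m3
import Cfsg.Agent.ClassificationK.GTwoModelConf_m3
import Cfsg.Agent.SylowSp4.Extremal
import Cfsg.Agent.ClassificationK.GTwoReduce
import Cfsg.Agent.LFourA.OddFree
import Cfsg.Agent.LFourR.QThree
import Cfsg.Agent.Lib.Hoist
import Cfsg.Agent.Lib.FinFast
import Cfsg.Agent.StandardComponent.CentCore
import Cfsg.Agent.S0058
import Cfsg.Agent.FastGrp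
import Cfsg.Agent.Prune
set_option linter.all false

section
prune_inst 0x7fb0b9fbaff8afffdfff7e7fffdcdffdfdbcfffffffff9cbffe869ffafdf6b0ecde52b8d8feb5aff0ef6629410f87bd3fdffdabfea6bdc7ffffd5ff45ffbff8fedf7bd08519688341fbc0ff703f07f8e7f3fffffffffffffffffffffffffffbeffffffffffff

-- part: LFourR/FixTorus
section
prune_inst 0x4d0004500150000000818000022000020300000000000000000600100004100002007000000100510908084506000002002540100422000000a000800000401000000020090480000000000000000000000000000000000000000000000000000000000000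
set_option linter.all false
open scoped Cfsg.Agent.FastGrp

/-!
# Involutory automorphisms of `SL(2, F)` without fixed elements of order four
-/

set_option autoImplicit false

namespace Cfsg.Agent.LFourR.FixTorus

open Matrix Cfsg.Agent.Lib.SL2Mat Cfsg.Agent.Lib.AutSL2 Cfsg.Agent.Lib.AutSL2Out
open Cfsg.Agent.Lib.PSL2Circle Cfsg.Agent.Lib.PSL2Inv Cfsg.Agent.Lib.PSL2Torus Cfsg.Agent.Lib.PSL2Outer
open Cfsg.Agent.LFourA.FieldInv Cfsg.Agent.LFourR.Mat2

variable {F : Type*} [Field F]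

/-- The fixed points in `SL(2, F)` of the conjugation by a matrix of trace `0` and nonsquare determinant. -/
theorem fixed_cyclic [Finite F] (h2 : (2 : F) ≠ 0) (g : GL (Fin 2) F) (htr : g.1 1 1 = - g.1 0 0)
    (hnsq : ¬ IsSquare g.1.det) (A : Subgroup (Matrix.SpecialLinearGroup (Fin 2) F))
    (hmemA : ∀ x, x ∈ A ↔ conjGL g x = x) :
    IsCyclic A ∧ ((Nat.card F % 4 = 1 ∧ Nat.card A = Nat.card F + 1) ∨
        (Nat.card F % 4 = 3 ∧ Nat.card A = Nat.card F - 1)) := by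
  set P := g.1 0 0 with hP
  set Q := g.1 0 1 with hQ
  set R := g.1 1 0 with hR
  set d := g.1.det with hdd
  have hdet : d = -(P ^ 2 + Q * R) := by
    rw [hdd, det_fin_two, htr, ← hP, ← hQ, ← hR]; ring
  have hd0 : d ≠ 0 := (Matrix.GeneralLinearGroup.det g).ne_zero
  let cm : Conic F (-d) → Matrix.SpecialLinearGroup (Fin 2) F := fun p =>
    mk (p.re + p.im * P) (p.im * Q) (p.im * R) (p.re - p.im * P) (by
      linear_combination p.eqn - p.im ^ 2 * hdet)
  have cval : ∀ q : Conic F (-d), (cm q).1 = q.re • (1 : Matrix (Fin 2) (Fin 2) F) + q.im • g.1 := by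
    intro q
    ext a b
    fin_cases a <;> fin_cases b
    · change q.re + q.im * P = _
      simp [hP]
    · change q.im * Q = _
      simp [hQ]
    · change q.im * R = _
      simp [hR]
    · change q.re - q.im * P = _
      simp [htr]
      ring
  have cmem : ∀ q, cm q ∈ A := by
    intro q
    rw [hmemA, conj_eq_iff, cval]
    simp only [Matrix.mul_add, Matrix.add_mul, Matrix.mul_smul, Matrix.smul_mul, Matrix.mul_one,
      Matrix.one_mul]
  have cinj : ∀ p q, cm p = cm q → p = q := by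
    intro p q h
    have a00 := congrArg (fun x => ent x 0 0) h
    have a01 := congrArg (fun x => ent x 0 1) h
    have a10 := congrArg (fun x => ent x 1 0) h
    have a11 := congrArg (fun x => ent x 1 1) h
    change p.re + p.im * P = q.re + q.im * P at a00
    change p.im * Q = q.im * Q at a01
    change p.im * R = q.im * R at a10
    change p.re - p.im * P = q.re - q.im * P at a11
    have ha : p.re = q.re := mul_left_cancel₀ h2 (by linear_combination a00 + a11)
    have hb : p.im = q.im := by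
      have h3 : (p.im - q.im) * P = 0 := by rw [ha] at a00; linear_combination a00
      have h4 : (p.im - q.im) * Q = 0 := by linear_combination a01
      have h5 : (p.im - q.im) * d = 0 := by
        linear_combination -P * h3 - R * h4 + (p.im - q.im) * hdet
      rcases mul_eq_zero.1 h5 with h6 | h6
      · exact sub_eq_zero.1 h6
      · exact absurd h6 hd0
    exact Conic.ext ha hb
  have csurj : ∀ x ∈ A, ∃ q, cm q = x := by
    intro x hx
    rw [hmemA, conj_eq_iff] at hx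
    have b00 := congrFun (congrFun hx 0) 0
    have b01 := congrFun (congrFun hx 0) 1
    have b10 := congrFun (congrFun hx 1) 0
    rw [Matrix.mul_apply, Fin.sum_univ_two, Matrix.mul_apply, Fin.sum_univ_two] at b00 b01 b10
    rw [htr, ← hP, ← hQ] at b01
    rw [htr, ← hP, ← hR] at b10
    rw [← hQ, ← hR] at b00
    obtain ⟨a, b, e1, e2, e3, e4⟩ := exists_lin h2 (P := P) (Q := Q) (R := R) rfl
      (by intro h; apply hd0; rw [hdet, h, neg_zero])
      (A := x.1 0 0) (B := x.1 0 1) (C := x.1 1 0) (D := x.1 1 1)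
      (by linear_combination -b00) (by linear_combination -b01) (by linear_combination -b10)
    have hdx := det_eq x
    change x.1 0 0 * x.1 1 1 - x.1 0 1 * x.1 1 0 = 1 at hdx
    refine ⟨⟨a, b, ?_⟩, ext_ent ?_ ?_ ?_ ?_⟩
    · rw [e1, e2, e3, e4] at hdx
      linear_combination hdx + b ^ 2 * hdet
    · exact e1.symm
    · exact e2.symm
    · exact e3.symm
    · exact e4.symm
  have hcardA : Nat.card A = Nat.card (Conic F (-d)) := by
    symm
    refine Nat.card_congr (Equiv.ofBijective (fun p => (⟨cm p, cmem p⟩ : A)) ⟨?_, ?_⟩)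
    · intro p q h
      exact cinj p q (congrArg Subtype.val h)
    · rintro ⟨x, hx⟩
      obtain ⟨q, hq⟩ := csurj x hx
      exact ⟨q, Subtype.ext hq⟩
  -- cyclic
  have hAcyc : IsCyclic A := by
    obtain ⟨ι, hι⟩ : ∃ ι : AlgebraicClosure F, ι * ι = algebraMap F (AlgebraicClosure F) (-d) := by
      obtain ⟨ι, hι⟩ := IsAlgClosed.exists_eq_mul_self (algebraMap F (AlgebraicClosure F) (-d))
      exact ⟨ι, hι.symm⟩
    let φ := algebraMap F (AlgebraicClosure F)
    have hι' : ι * ι = φ (-d) := hι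
    have hι0 : ι ≠ 0 := by
      rintro rfl
      rw [mul_zero] at hι'
      have : -d = 0 := φ.injective (by rw [← hι', map_zero])
      exact hd0 (neg_eq_zero.1 this)
    have h2' : (2 : AlgebraicClosure F) ≠ 0 := by
      intro h
      apply h2
      apply φ.injective
      rw [map_ofNat, map_zero, h]
    let re : Matrix.SpecialLinearGroup (Fin 2) F → F := fun x => (ent x 0 0 + ent x 1 1) / 2
    let im : Matrix.SpecialLinearGroup (Fin 2) F → F := fun x =>
      (((ent x 0 0 - ent x 1 1) / 2 * P + ent x 0 1 * R)) / (-d)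
    have hre : ∀ p : Conic F (-d), re (cm p) = p.re := by
      intro p
      change ((p.re + p.im * P) + (p.re - p.im * P)) / 2 = p.re
      field_simp
      ring
    have him : ∀ p : Conic F (-d), im (cm p) = p.im := by
      intro p
      change ((((p.re + p.im * P) - (p.re - p.im * P)) / 2 * P + (p.im * Q) * R)) / (-d) = p.im
      rw [div_eq_iff (neg_ne_zero.2 hd0)]
      have e : ((p.re + p.im * P) - (p.re - p.im * P)) / 2 = p.im * P := by
        field_simp
        ring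
      rw [e]
      linear_combination p.im * hdet
    let f0 : A → AlgebraicClosure F := fun x => φ (re x.1) + φ (im x.1) * ι
    have hf1 : f0 1 = 1 := by
      have h1 : (1 : Matrix.SpecialLinearGroup (Fin 2) F) = cm ⟨1, 0, by simp⟩ := by
        refine ext_ent ?_ ?_ ?_ ?_
        · change (1 : F) = 1 + 0 * P
          ring
        · change (0 : F) = 0 * Q
          ring
        · change (0 : F) = 0 * R
          ring
        · change (1 : F) = 1 - 0 * P
          ring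
      change φ (re 1) + φ (im 1) * ι = 1
      rw [h1, hre, him]
      simp
    have hfm : ∀ x y, f0 (x * y) = f0 x * f0 y := by
      rintro ⟨x, hx⟩ ⟨y, hy⟩
      obtain ⟨p, rfl⟩ := csurj x hx
      obtain ⟨q, rfl⟩ := csurj y hy
      have hp := p.eqn
      have hq := q.eqn
      let r : Conic F (-d) := ⟨p.re * q.re + (-d) * (p.im * q.im), p.re * q.im + p.im * q.re, by
        linear_combination (q.re ^ 2 - (-d) * q.im ^ 2) * hp + hq⟩
      have hr : cm p * cm q = cm r := by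
        refine ext_ent ?_ ?_ ?_ ?_
        · rw [ent_mul]
          change (p.re + p.im * P) * (q.re + q.im * P) + (p.im * Q) * (q.im * R) =
            (p.re * q.re + (-d) * (p.im * q.im)) + (p.re * q.im + p.im * q.re) * P
          linear_combination p.im * q.im * hdet
        · rw [ent_mul]
          change (p.re + p.im * P) * (q.im * Q) + (p.im * Q) * (q.re - q.im * P) =
            (p.re * q.im + p.im * q.re) * Q
          ring
        · rw [ent_mul]
          change (p.im * R) * (q.re + q.im * P) + (p.re - p.im * P) * (q.im * R) =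
            (p.re * q.im + p.im * q.re) * R
          ring
        · rw [ent_mul]
          change (p.im * R) * (q.im * Q) + (p.re - p.im * P) * (q.re - q.im * P) =
            (p.re * q.re + (-d) * (p.im * q.im)) - (p.re * q.im + p.im * q.re) * P
          linear_combination p.im * q.im * hdet
      change φ (re (cm p * cm q)) + φ (im (cm p * cm q)) * ι =
        (φ (re (cm p)) + φ (im (cm p)) * ι) * (φ (re (cm q)) + φ (im (cm q)) * ι)
      rw [hr, hre, him, hre, him, hre, him]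
      change φ (p.re * q.re + (-d) * (p.im * q.im)) + φ (p.re * q.im + p.im * q.re) * ι = _
      rw [map_add, map_add, map_mul, map_mul, map_mul, map_mul, map_mul]
      linear_combination -φ p.im * φ q.im * hι'
    let f : A →* AlgebraicClosure F := ⟨⟨f0, hf1⟩, hfm⟩
    refine isCyclic_of_injective_ringHom f ?_
    have hker : ∀ x, f x = 1 → x = 1 := by
      rintro ⟨x, hx⟩ hfx
      obtain ⟨p, rfl⟩ := csurj x hx
      change φ (re (cm p)) + φ (im (cm p)) * ι = 1 at hfx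
      rw [hre, him] at hfx
      have h1 : φ p.re ^ 2 - φ (-d) * φ p.im ^ 2 = 1 := by
        rw [← map_pow, ← map_pow, ← map_mul, ← map_sub, p.eqn, map_one]
      have h3 : φ p.re - φ p.im * ι = 1 := by
        have : (φ p.re + φ p.im * ι) * (φ p.re - φ p.im * ι) = 1 := by
          linear_combination h1 - φ p.im ^ 2 * hι'
        rwa [hfx, one_mul] at this
      have h4 : φ p.re = 1 := by
        have : (2 : AlgebraicClosure F) * φ p.re = 2 * 1 := by linear_combination hfx + h3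
        exact mul_left_cancel₀ h2' this
      have h5 : φ p.im = 0 := by
        have : (2 : AlgebraicClosure F) * (φ p.im * ι) = 0 := by linear_combination hfx - h3
        rcases mul_eq_zero.1 this with h | h
        · exact absurd h h2'
        · rcases mul_eq_zero.1 h with h | h
          · exact h
          · exact absurd h hι0
      have h6 : p.re = 1 := φ.injective (by rw [h4, map_one])
      have h7 : p.im = 0 := φ.injective (by rw [h5, map_zero])
      apply Subtype.ext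
      change cm p = 1
      refine ext_ent ?_ ?_ ?_ ?_
      · change p.re + p.im * P = 1
        rw [h6, h7]; ring
      · change p.im * Q = 0
        rw [h7]; ring
      · change p.im * R = 0
        rw [h7]; ring
      · change p.re - p.im * P = 1
        rw [h6, h7]; ring
    exact (injective_iff_map_eq_one f).2 hker
  refine ⟨hAcyc, ?_⟩
  rw [hcardA]
  exact card_conic h2 hnsq

/-- An involutory automorphism of `SL(2,F)` fixing no square root of `-1` is induced by `GL(2,F)`. -/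
theorem exists_form [Finite F] (h2 : (2 : F) ≠ 0) {α : MulAut (Matrix.SpecialLinearGroup (Fin 2) F)}
    (hα : ∀ x, α (α x) = x) (hno : ∀ x, x * x = -1 → α x ≠ x) :
    ∃ g : GL (Fin 2) F, ∀ x, α x = conjGL g x := by
  obtain ⟨g, σ, hgσ'⟩ := exists_gl_ringEquiv (MonoidHom.id (Matrix.SpecialLinearGroup (Fin 2) F))
    Function.surjective_id (by
      intro x hx
      rw [MonoidHom.mem_ker] at hx
      rw [show x = 1 from hx]
      exact one_mem _) α
  have hgσ : ∀ x, α x = conjGL g (fieldAut σ x) := hgσ'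
  have hsemi : ∀ (k : GL (Fin 2) F) (x), fieldAut σ (conjGL k x) =
      conjGL (Matrix.GeneralLinearGroup.map σ.toRingHom k) (fieldAut σ x) := by
    intro k x
    have := DFunLike.congr_fun (fieldAut_mul_conjGL σ k) x
    rwa [MulAut.mul_apply, MulAut.mul_apply] at this
  have hsq : ∀ x, conjGL (g * Matrix.GeneralLinearGroup.map σ.toRingHom g) (fieldAut (σ * σ) x) = x ∨
      conjGL (g * Matrix.GeneralLinearGroup.map σ.toRingHom g) (fieldAut (σ * σ) x) = -x := by
    intro x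
    left
    have h1 := hα x
    rw [hgσ, hgσ, hsemi] at h1
    have h5 : conjGL (g * Matrix.GeneralLinearGroup.map σ.toRingHom g) (fieldAut (σ * σ) x) =
        conjGL g (conjGL (Matrix.GeneralLinearGroup.map σ.toRingHom g) (fieldAut σ (fieldAut σ x))) := by
      rw [map_mul, map_mul]; rfl
    rw [h5]
    exact h1
  obtain ⟨hσ, c, hc, hgc⟩ := eq_one_of_map h2 hsq
  have hσ2 : ∀ a, σ (σ a) = a := fun a => DFunLike.congr_fun hσ a
  by_cases hσ1 : σ = 1
  · subst hσ1
    exact ⟨g, fun x => by rw [hgσ, map_one, MulAut.one_apply]⟩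
  exfalso
  have hσne : ∃ a, σ a ≠ a := by
    by_contra hcon
    push Not at hcon
    exact hσ1 (RingEquiv.ext hcon)
  have hmap : (Matrix.GeneralLinearGroup.map σ.toRingHom g).1 = g.1.map σ := rfl
  have hgc' : g.1 * g.1.map σ = c • (1 : Matrix (Fin 2) (Fin 2) F) := by
    rw [← hmap, ← Units.val_mul, hgc]
  -- `c` is fixed by `σ`
  have hgc2 : g.1.map σ * g.1 = σ c • (1 : Matrix (Fin 2) (Fin 2) F) := by
    have h1 := congrArg (fun M : Matrix (Fin 2) (Fin 2) F => σ.toRingHom.mapMatrix M) hgc'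
    simp only [map_mul] at h1
    have h3 : σ.toRingHom.mapMatrix (g.1.map σ) = g.1 := by
      ext i j
      exact hσ2 _
    have h4 : σ.toRingHom.mapMatrix (c • (1 : Matrix (Fin 2) (Fin 2) F)) =
        σ c • (1 : Matrix (Fin 2) (Fin 2) F) := by
      ext i j
      change σ (c * (1 : Matrix (Fin 2) (Fin 2) F) i j) = σ c * (1 : Matrix (Fin 2) (Fin 2) F) i j
      rw [map_mul]
      congr 1
      by_cases hij : i = j
      · rw [hij, Matrix.one_apply_eq, map_one]
      · rw [Matrix.one_apply_ne hij, map_zero]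
    rw [h3, h4] at h1
    exact h1
  have hcσ : σ c = c := by
    have h1 : g.1.map σ * (g.1 * g.1.map σ) = c • g.1.map σ := by
      rw [hgc', Matrix.mul_smul, Matrix.mul_one]
    rw [← Matrix.mul_assoc, hgc2, Matrix.smul_mul, Matrix.one_mul] at h1
    by_contra hne
    have h3 : (σ c - c) • g.1.map σ = 0 := by rw [sub_smul, h1, sub_self]
    have h4 : g.1.map σ = 0 := (smul_eq_zero.1 h3).resolve_left (sub_ne_zero.2 hne)
    rw [h4, Matrix.mul_zero] at hgc'
    have := congrFun (congrFun hgc' 0) 0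
    simp at this
    exact hc this.symm
  have hσid : σ.toRingHom ≠ RingHom.id F := by
    intro h
    obtain ⟨a, ha⟩ := hσne
    exact ha (DFunLike.congr_fun h a)
  obtain ⟨μ, hμ⟩ := Cfsg.Agent.ClassicalGeometry.InvolutiveNorm.exists_mul_sigma_eq
    (σ := σ.toRingHom) hσid hσ2 (a := c⁻¹) (by
      change σ c⁻¹ = c⁻¹
      rw [map_inv₀, hcσ])
  have hμ' : μ * σ μ = c⁻¹ := hμ
  have hμ0 : μ ≠ 0 := by
    rintro rfl
    rw [zero_mul] at hμ'
    exact inv_ne_zero hc hμ'.symm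
  have hA : (μ • g.1) * (μ • g.1).map σ = 1 := by
    have h1 : (μ • g.1).map σ = σ μ • g.1.map σ := by
      ext i j
      change σ (μ * g.1 i j) = σ μ * σ (g.1 i j)
      rw [map_mul]
    rw [h1, Matrix.smul_mul, Matrix.mul_smul, hgc', smul_smul, smul_smul, hμ',
      inv_mul_cancel₀ hc, one_smul]
  obtain ⟨B, hBu, hB⟩ := hilbert σ hσ2 hσne (μ • g.1) hA
  obtain ⟨h, rfl⟩ := hBu
  have key : ∀ x, α (conjGL h x) = conjGL h (fieldAut σ x) := by
    intro x
    rw [hgσ, hsemi]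
    have h1 : conjGL g (conjGL (Matrix.GeneralLinearGroup.map σ.toRingHom h) (fieldAut σ x)) =
        conjGL (g * Matrix.GeneralLinearGroup.map σ.toRingHom h) (fieldAut σ x) := by
      rw [map_mul]; rfl
    rw [h1]
    apply conjGL_smul (c := μ⁻¹)
    have h3 : (Matrix.GeneralLinearGroup.map σ.toRingHom h).1 = h.1.map σ := rfl
    have h5 : μ⁻¹ • h.1 = μ⁻¹ • (μ • g.1 * h.1.map σ) := by rw [hB]
    rw [Units.val_mul, h3, h5, Matrix.smul_mul, smul_smul, inv_mul_cancel₀ hμ0, one_smul]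
  set w0 : Matrix.SpecialLinearGroup (Fin 2) F := mk 0 (-1) 1 0 (by ring) with hw0
  have hw0sq : w0 * w0 = -1 := by
    refine ext_ent ?_ ?_ ?_ ?_
    · rw [ent_mul]; change (0 : F) * 0 + -1 * 1 = -1; ring
    · rw [ent_mul]; change (0 : F) * -1 + -1 * 0 = -0; ring
    · rw [ent_mul]; change (1 : F) * 0 + 0 * 1 = -0; ring
    · rw [ent_mul]; change (1 : F) * -1 + 0 * 0 = -1; ring
  have hw0σ : fieldAut σ w0 = w0 := by
    refine ext_ent ?_ ?_ ?_ ?_
    · change σ 0 = 0; exact map_zero σ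
    · change σ (-1) = -1; rw [map_neg, map_one]
    · change σ 1 = 1; exact map_one σ
    · change σ 0 = 0; exact map_zero σ
  refine hno (conjGL h w0) ?_ ?_
  · rw [← map_mul, hw0sq, conjGL_neg_one]
  · rw [key, hw0σ]

/-- **Involutory automorphisms of `SL(2,F)` without fixed elements of order four.** -/
theorem main [Finite F] (h2 : (2 : F) ≠ 0) {α : MulAut (Matrix.SpecialLinearGroup (Fin 2) F)}
    (hα : ∀ x, α (α x) = x) (hno : ∀ x, x * x = -1 → α x ≠ x)
    (T : Subgroup (Matrix.SpecialLinearGroup (Fin 2) F)) (hT : ∀ x, x ∈ T ↔ α x = x) :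
    IsCyclic T ∧ ((Nat.card F % 4 = 1 ∧ Nat.card T = Nat.card F + 1) ∨
        (Nat.card F % 4 = 3 ∧ Nat.card T = Nat.card F - 1)) := by
  obtain ⟨g, hg⟩ := exists_form h2 hα hno
  have hsc : ∀ x : Matrix.SpecialLinearGroup (Fin 2) F, conjGL (g * g) x = x := by
    intro x
    rw [map_mul, MulAut.mul_apply, ← hg, ← hg, hα]
  have hns : ¬ IsSc g.1 := by
    intro h
    set w0 : Matrix.SpecialLinearGroup (Fin 2) F := mk 0 (-1) 1 0 (by ring) with hw0
    have hw0sq : w0 * w0 = -1 := by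
      refine ext_ent ?_ ?_ ?_ ?_
      · rw [ent_mul]; change (0 : F) * 0 + -1 * 1 = -1; ring
      · rw [ent_mul]; change (0 : F) * -1 + -1 * 0 = -0; ring
      · rw [ent_mul]; change (1 : F) * 0 + 0 * 1 = -0; ring
      · rw [ent_mul]; change (1 : F) * -1 + 0 * 0 = -1; ring
    refine hno w0 hw0sq ?_
    rw [hg, conjGL_eq_one_of_isSc h, MulAut.one_apply]
  have htr0 : g.1.trace = 0 := by
    refine trace_eq_zero_of_sq hns ?_
    have h1 : IsSc (g * g).1 := isSc_of_conjGL_eq_one (MulEquiv.ext hsc)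
    exact h1
  have htr : g.1 1 1 = - g.1 0 0 := by
    rw [Matrix.trace_fin_two] at htr0
    linear_combination htr0
  refine fixed_cyclic h2 g htr ?_ T (fun x => by rw [hT, hg])
  rintro ⟨e, he⟩
  have hd0 : g.1.det ≠ 0 := (Matrix.GeneralLinearGroup.det g).ne_zero
  have he0 : e ≠ 0 := by
    rintro rfl
    rw [mul_zero] at he
    exact hd0 he
  have hdet : g.1.det = -(g.1 0 0 ^ 2 + g.1 0 1 * g.1 1 0) := by
    rw [det_fin_two, htr]; ring
  rw [hdet] at he
  have hee : e⁻¹ * e⁻¹ * (g.1 0 0 ^ 2 + g.1 0 1 * g.1 1 0) = -1 := by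
    have : g.1 0 0 ^ 2 + g.1 0 1 * g.1 1 0 = -(e * e) := by linear_combination -he
    rw [this]; field_simp
  set s : Matrix.SpecialLinearGroup (Fin 2) F := mk (e⁻¹ * g.1 0 0) (e⁻¹ * g.1 0 1) (e⁻¹ * g.1 1 0) (e⁻¹ * -g.1 0 0)
    (by linear_combination -hee) with hs
  have hsv : s.1 = e⁻¹ • g.1 := by
    ext a b
    fin_cases a <;> fin_cases b
    · rfl
    · rfl
    · rfl
    · change e⁻¹ * -g.1 0 0 = e⁻¹ * g.1 1 1
      rw [htr]
  refine hno s ?_ ?_
  · refine ext_ent ?_ ?_ ?_ ?_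
    · rw [ent_mul]
      change e⁻¹ * g.1 0 0 * (e⁻¹ * g.1 0 0) + e⁻¹ * g.1 0 1 * (e⁻¹ * g.1 1 0) = -1
      linear_combination hee
    · rw [ent_mul]
      change e⁻¹ * g.1 0 0 * (e⁻¹ * g.1 0 1) + e⁻¹ * g.1 0 1 * (e⁻¹ * -g.1 0 0) = -0
      ring
    · rw [ent_mul]
      change e⁻¹ * g.1 1 0 * (e⁻¹ * g.1 0 0) + e⁻¹ * -g.1 0 0 * (e⁻¹ * g.1 1 0) = -0
      ring
    · rw [ent_mul]
      change e⁻¹ * g.1 1 0 * (e⁻¹ * g.1 0 1) + e⁻¹ * -g.1 0 0 * (e⁻¹ * -g.1 0 0) = -1
      linear_combination hee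
  · rw [hg, conj_eq_iff, hsv, Matrix.mul_smul, Matrix.smul_mul]

end Cfsg.Agent.LFourR.FixTorus
end

-- part: LFourA/CzFinal_mg
section
prune_inst 0x24600000000002000000000010002004000000000060000118000400000613200d000101400008000002aa000000000000440050000000000000000000050000802852040240a00406008f801004000000000000000000000000000000041000000000000
set_option linter.all false
open scoped Cfsg.Agent.FastGrp

-- part: LFourA/CzEmb
section
/-!
# The subgroup of index 2 of `D wr 2` isomorphic to the model group `T (4 * 2 ^ k)`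
-/

set_option autoImplicit false

namespace Cfsg.Agent.LFourA.CzEmb

open DihedralGroup Cfsg.Agent.LFourA.Model Cfsg.Agent.LFourA.Base Cfsg.Agent.LFourA.Defs
open Cfsg.Agent.ClassificationK.GTwoModel
open Cfsg.Agent.ClassificationK.GTwoQuat
open Cfsg.Agent.ClassificationK.GTwoModelConf

section

variable {k : ℕ}

/-- comparison of the rings of exponents -/
def kap (k : ℕ) : ZMod (2 * 2 ^ (k + 1)) ≃+* ZMod (4 * 2 ^ k) := ZMod.ringEquivCongr (by ring)

theorem kap_natCast (n : ℕ) : kap k (n : ZMod (2 * 2 ^ (k + 1))) = (n : ZMod (4 * 2 ^ k)) := map_natCast _ _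

theorem kap_half : kap k ((2 ^ (k + 1) : ℕ) : ZMod (2 * 2 ^ (k + 1))) = ((2 * 2 ^ k : ℕ) : ZMod (4 * 2 ^ k)) := by
  rw [kap_natCast, pow_succ', mul_comm]

/-- the elements `r i`, `r i * sr 0` -/
def de (e : Bool) (i : ZMod (4 * 2 ^ k)) : _root_.Cfsg.Agent.LFourA.Model.D k := cond e (sr (-i)) (r i)

theorem de_false (i : ZMod (4 * 2 ^ k)) : de false i = r i := rfl

theorem de_true (i : ZMod (4 * 2 ^ k)) : de true i = sr (-i) := rfl

theorem de_mul (e e' : Bool) (i i' : ZMod (4 * 2 ^ k)) :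
    de e i * de e' i' = de (xor e e') (i + cond e (-i') i') := by
  cases e <;> cases e'
  · rw [de_false, de_false, r_mul_r]; rfl
  · rw [de_false, de_true, r_mul_sr]
    change sr (-i' - i) = sr (-(i + i'))
    congr 1
    ring
  · rw [de_true, de_false, sr_mul_r]
    change sr (-i + i') = sr (-(i + -i'))
    congr 1
    ring
  · rw [de_true, de_true, sr_mul_sr]
    change r (-i' - -i) = r (i + -i')
    congr 1
    ring

theorem de_inj {e e' : Bool} {i i' : ZMod (4 * 2 ^ k)} (h : de e i = de e' i') : e = e' ∧ i = i' := by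
  cases e <;> cases e'
  · exact ⟨rfl, DihedralGroup.r.inj h⟩
  · cases h
  · cases h
  · exact ⟨rfl, neg_injective (DihedralGroup.sr.inj h)⟩

theorem kap_sg (e : Bool) (i : ZMod (2 * 2 ^ (k + 1))) :
    kap k (sg (2 * 2 ^ (k + 1)) e * i) = cond e (-(kap k i)) (kap k i) := by
  cases e
  · simp
  · simp only [_root_.Cfsg.Agent.ClassificationK.GTwoModel.sg_true, _root_.neg_mul, _root_.one_mul, _root_.map_neg, _root_.cond_true]

end

variable {X : Type*} [Group X] {S : Subgroup X} {k : ℕ} {f : _root_.Cfsg.Agent.LFourA.Model.D k → _root_.Cfsg.Agent.LFourA.Model.D k → X} {w : X}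

/-- the embedding of the model group -/
def emb (h : DWr S k f w) : T (2 * 2 ^ (k + 1)) →* X where
  toFun p := f (de p.e (kap k p.i)) (de p.e (kap k p.j)) * cond p.d w 1
  map_one' := by
    rw [T.one_def]
    simp only [map_zero, de_false, cond_false, mul_one]
    exact f_one h
  map_mul' := by
    rintro ⟨i, j, e, d⟩ ⟨i', j', e', d'⟩
    rw [T.mul_mk]
    simp only [map_add, kap_sg]
    cases d <;> cases d'
    · simp only [cond_false, mul_one, Bool.xor_false]
      rw [h.f_mul, de_mul, de_mul]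
    · simp only [cond_false, cond_true, mul_one, Bool.xor_true, Bool.not_false]
      rw [f_mul_fw h, de_mul, de_mul]
    · simp only [cond_false, cond_true, mul_one, Bool.xor_false]
      rw [fw_mul_f h, de_mul, de_mul]
    · simp only [cond_false, cond_true, mul_one, Bool.xor_true, Bool.not_true]
      rw [fw_mul_fw h, de_mul, de_mul]

section

variable (h : DWr S k f w)

include h

theorem emb_mk (i j : ZMod (2 * 2 ^ (k + 1))) (e d : Bool) :
    emb h ⟨i, j, e, d⟩ = f (de e (kap k i)) (de e (kap k j)) * cond d w 1 := rfl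

theorem emb_mk_false (i j : ZMod (2 * 2 ^ (k + 1))) (e : Bool) :
    emb h ⟨i, j, e, false⟩ = f (de e (kap k i)) (de e (kap k j)) := by
  rw [emb_mk]
  exact mul_one _

theorem emb_mk_true (i j : ZMod (2 * 2 ^ (k + 1))) (e : Bool) :
    emb h ⟨i, j, e, true⟩ = f (de e (kap k i)) (de e (kap k j)) * w := rfl

theorem emb_inj : Function.Injective (emb h) := by
  rintro ⟨i, j, e, d⟩ ⟨i', j', e', d'⟩ hp
  cases d <;> cases d'
  · rw [emb_mk_false, emb_mk_false, f_eq_iff h] at hp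
    obtain ⟨h1, h2⟩ := de_inj hp.1
    obtain ⟨-, h3⟩ := de_inj hp.2
    rw [h1, (kap k).injective h2, (kap k).injective h3]
  · rw [emb_mk_false, emb_mk_true] at hp
    exact absurd hp.symm (fw_ne h _ _ _ _)
  · rw [emb_mk_false, emb_mk_true] at hp
    exact absurd hp (fw_ne h _ _ _ _)
  · rw [emb_mk_true, emb_mk_true, fw_eq_iff h] at hp
    obtain ⟨h1, h2⟩ := de_inj hp.1
    obtain ⟨-, h3⟩ := de_inj hp.2
    rw [h1, (kap k).injective h2, (kap k).injective h3]

theorem emb_mem (p : T (2 * 2 ^ (k + 1))) : emb h p ∈ S := by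
  obtain ⟨i, j, e, d⟩ := p
  cases d
  · rw [emb_mk_false]; exact f_mem h _ _
  · rw [emb_mk_true]; exact fw_mem h _ _

theorem emb_z : emb h (T.z (2 ^ (k + 1))) = f (c k) (c k) := by
  rw [T.z, emb_mk_false, kap_half]
  rfl

theorem emb_a' : emb h (T.a' (2 ^ (k + 1))) = f (c k) 1 := by
  rw [T.a', emb_mk_false, kap_half, map_zero]
  rfl

theorem emb_u : emb h (T.u (2 ^ (k + 1))) = w := by
  rw [T.u, emb_mk_true, map_zero]
  change f 1 1 * w = w
  rw [f_one h, one_mul]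

theorem emb_w : emb h (T.w (2 ^ (k + 1))) = f (sr 0) (sr 0) * w := by
  rw [T.w, emb_mk_true, map_zero]
  change f (sr (-0)) (sr (-0)) * w = _
  rw [neg_zero]

/-- the range of the embedding -/
theorem mem_range_f {a b : _root_.Cfsg.Agent.LFourA.Model.D k} : f a b ∈ (emb h).range ↔
    (∃ i j, a = r i ∧ b = r j) ∨ ∃ i j, a = sr i ∧ b = sr j := by
  constructor
  · rintro ⟨⟨i, j, e, d⟩, hp⟩
    cases d
    · rw [emb_mk_false, f_eq_iff h] at hp
      cases e
      · exact Or.inl ⟨_, _, hp.1.symm, hp.2.symm⟩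
      · exact Or.inr ⟨_, _, hp.1.symm, hp.2.symm⟩
    · rw [emb_mk_true] at hp
      exact absurd hp (fw_ne h _ _ _ _)
  · rintro (⟨i, j, rfl, rfl⟩ | ⟨i, j, rfl, rfl⟩)
    · refine ⟨⟨(kap k).symm i, (kap k).symm j, false, false⟩, ?_⟩
      rw [emb_mk_false, RingEquiv.apply_symm_apply, RingEquiv.apply_symm_apply]
      rfl
    · refine ⟨⟨(kap k).symm (-i), (kap k).symm (-j), true, false⟩, ?_⟩
      rw [emb_mk_false, RingEquiv.apply_symm_apply, RingEquiv.apply_symm_apply, de_true, de_true, neg_neg, neg_neg]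

theorem w_mem_range : w ∈ (emb h).range := ⟨_, emb_u h⟩

theorem mem_range_fw {a b : _root_.Cfsg.Agent.LFourA.Model.D k} : f a b * w ∈ (emb h).range ↔
    (∃ i j, a = r i ∧ b = r j) ∨ ∃ i j, a = sr i ∧ b = sr j := by
  rw [← mem_range_f h]
  exact Subgroup.mul_mem_cancel_right _ (w_mem_range h)

/-- The reflection `(y, 1)` is outside the subgroup, which has index two. -/
theorem relIndex_range : (emb h).range.relIndex S = 2 := by
  rw [Subgroup.relIndex, Subgroup.index_eq_two_iff]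
  refine ⟨⟨f (sr 0) 1, f_mem h _ _⟩, ?_⟩
  have key : ∀ a b : _root_.Cfsg.Agent.LFourA.Model.D k, Xor ((∃ i j, a * sr 0 = r i ∧ b = r j) ∨ ∃ i j, a * sr 0 = sr i ∧ b = sr j)
      ((∃ i j, a = r i ∧ b = r j) ∨ ∃ i j, a = sr i ∧ b = sr j) := by
    intro a b
    rcases a with i | i <;> rcases b with j | j
    · refine Or.inr ⟨Or.inl ⟨i, j, rfl, rfl⟩, ?_⟩
      rw [r_mul_sr]
      rintro (⟨_, _, h1, -⟩ | ⟨_, _, -, h1⟩) <;> cases h1
    · refine Or.inl ⟨Or.inr ⟨_, _, r_mul_sr _ _, rfl⟩, ?_⟩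
      rintro (⟨_, _, -, h1⟩ | ⟨_, _, h1, -⟩) <;> cases h1
    · refine Or.inl ⟨Or.inl ⟨_, _, sr_mul_sr _ _, rfl⟩, ?_⟩
      rintro (⟨_, _, h1, -⟩ | ⟨_, _, -, h1⟩) <;> cases h1
    · refine Or.inr ⟨Or.inr ⟨i, j, rfl, rfl⟩, ?_⟩
      rw [sr_mul_sr]
      rintro (⟨_, _, -, h1⟩ | ⟨_, _, h1, -⟩) <;> cases h1
  have key' : ∀ a b : _root_.Cfsg.Agent.LFourA.Model.D k, Xor ((∃ i j, a = r i ∧ b * sr 0 = r j) ∨ ∃ i j, a = sr i ∧ b * sr 0 = sr j)
      ((∃ i j, a = r i ∧ b = r j) ∨ ∃ i j, a = sr i ∧ b = sr j) := by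
    intro a b
    rcases a with i | i <;> rcases b with j | j
    · refine Or.inr ⟨Or.inl ⟨i, j, rfl, rfl⟩, ?_⟩
      rw [r_mul_sr]
      rintro (⟨_, _, -, h1⟩ | ⟨_, _, h1, -⟩) <;> cases h1
    · refine Or.inl ⟨Or.inl ⟨_, _, rfl, sr_mul_sr _ _⟩, ?_⟩
      rintro (⟨_, _, -, h1⟩ | ⟨_, _, h1, -⟩) <;> cases h1
    · refine Or.inl ⟨Or.inr ⟨_, _, rfl, r_mul_sr _ _⟩, ?_⟩
      rintro (⟨_, _, h1, -⟩ | ⟨_, _, -, h1⟩) <;> cases h1
    · refine Or.inr ⟨Or.inr ⟨i, j, rfl, rfl⟩, ?_⟩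
      rw [sr_mul_sr]
      rintro (⟨_, _, h1, -⟩ | ⟨_, _, -, h1⟩) <;> cases h1
  rintro ⟨g, hg⟩
  rw [Subgroup.mem_subgroupOf, Subgroup.mem_subgroupOf]
  change Xor (g * f (sr 0) 1 ∈ (emb h).range) (g ∈ (emb h).range)
  rcases mem_cases h hg with ⟨a, b, rfl⟩ | ⟨a, b, rfl⟩
  · rw [h.f_mul, mul_one, mem_range_f h, mem_range_f h]
    exact key a b
  · rw [fw_mul_f h, mul_one, mem_range_fw h, mem_range_fw h]
    exact key' a b

end

end Cfsg.Agent.LFourA.CzEmb
end

-- part: LFourA/CzTransfer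
section
/-!
# The centraliser of `z`, case I: the normal subgroup of index two with Sylow 2-subgroup `T (4 * 2 ^ k)`
-/

set_option autoImplicit false

namespace Cfsg.Agent.LFourA.CzTransfer

open DihedralGroup Cfsg.Agent.LFourA.Model Cfsg.Agent.LFourA.Base Cfsg.Agent.LFourA.Defs
open Cfsg.Agent.LFourA.CzData Cfsg.Agent.LFourA.CzEmb
open Cfsg.Agent.ClassificationK.GTwoModel
open Cfsg.Agent.ClassificationK.GTwoQuat
open Cfsg.Agent.ClassificationK.GTwoModelConf

section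

variable {X : Type*} [Group X] {S : Subgroup X} {k : ℕ} {f : _root_.Cfsg.Agent.LFourA.Model.D k → _root_.Cfsg.Agent.LFourA.Model.D k → X} {w : X}
  (h : DWr S k f w) {T : X → Prop} (hT : ZData f w T)

theorem pa_add_half (i : ZMod (4 * 2 ^ k)) : pa (i + ((2 * 2 ^ k : ℕ) : ZMod (4 * 2 ^ k))) = pa i := by
  rw [map_add, pa_half, add_zero]

include hT

theorem T_iff (g x : X) : T (g * x * g⁻¹) ↔ T x := by
  constructor
  · intro h1
    have h2 := hT.conj g⁻¹ _ h1
    have h3 : g⁻¹ * (g * x * g⁻¹) * g⁻¹⁻¹ = x := by group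
    rwa [h3] at h2
  · exact hT.conj g x

include h

theorem T_swap (a b : _root_.Cfsg.Agent.LFourA.Model.D k) : T (f a b) ↔ T (f b a) := by
  rw [← w_conj h a b, T_iff hT]

/-- An involution different from `z` is in the subgroup of index two if and only if it is pure. -/
theorem mem_iff_pure {x : X} (hx : x ∈ S) (hx2 : x * x = 1) (hx1 : x ≠ 1) (hxz : x ≠ f (c k) (c k)) :
    x ∈ (emb h).range ↔ (T x ↔ T (f (c k) (c k) * x)) := by
  have ht' : T (f 1 (c k)) := by rw [T_swap h hT]; exact hT.t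
  rcases mem_cases h hx with ⟨a, b, rfl⟩ | ⟨a, b, rfl⟩
  · rw [h.f_mul, f_eq_one_iff h] at hx2
    rw [mem_range_f h, h.f_mul]
    rcases eq_of_sq_one hx2.1 with rfl | rfl | ⟨i, rfl⟩ <;> rcases eq_of_sq_one hx2.2 with rfl | rfl | ⟨j, rfl⟩
    · exact absurd (f_one h) hx1
    · rw [mul_one, c_mul_c]
      refine iff_of_true (Or.inl ⟨0, _, one_def, rfl⟩) (iff_of_true ht' hT.t)
    · rw [mul_one, c_comm, sr_c, T_swap h hT 1, T_swap h hT (c k)]
      refine iff_of_false ?_ (fun h1 => hT.sr_c _ (h1.1 (hT.sr_one _)))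
      rintro (⟨_, _, -, h1⟩ | ⟨_, _, h1, -⟩)
      · cases h1
      · exact sr_ne_one _ h1.symm
    · rw [mul_one, c_mul_c]
      refine iff_of_true (Or.inl ⟨_, 0, rfl, one_def⟩) (iff_of_true hT.t ht')
    · exact absurd rfl hxz
    · rw [c_comm (sr j), c_mul_c, sr_c, T_swap h hT (c k), T_swap h hT 1]
      refine iff_of_false ?_ (fun h1 => hT.sr_c _ (h1.2 (hT.sr_one _)))
      rintro (⟨_, _, -, h1⟩ | ⟨_, _, h1, -⟩)
      · cases h1
      · exact sr_ne_c _ h1.symm
    · rw [mul_one, c_comm, sr_c]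
      refine iff_of_false ?_ (fun h1 => hT.sr_c _ (h1.1 (hT.sr_one _)))
      rintro (⟨_, _, h1, -⟩ | ⟨_, _, -, h1⟩)
      · cases h1
      · exact sr_ne_one _ h1.symm
    · rw [c_comm (sr i), c_mul_c, sr_c]
      refine iff_of_false ?_ (fun h1 => hT.sr_c _ (h1.2 (hT.sr_one _)))
      rintro (⟨_, _, h1, -⟩ | ⟨_, _, -, h1⟩)
      · cases h1
      · exact sr_ne_c _ h1.symm
    · rw [c_comm (sr i), c_comm (sr j), sr_c, sr_c]
      refine iff_of_true (Or.inr ⟨i, j, rfl, rfl⟩) ?_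
      by_cases hij : pa i = pa j
      · exact iff_of_true (hT.same i j hij) (hT.same _ _ (by rw [pa_add_half, pa_add_half, hij]))
      · exact iff_of_false (hT.diff i j hij) (hT.diff _ _ (by rw [pa_add_half, pa_add_half]; exact hij))
  · rw [fw_mul_fw h, f_eq_one_iff h] at hx2
    obtain ⟨g, hg⟩ := hT.w_t
    have hTw : T w := by
      rw [← T_iff hT g, hg]
      exact hT.t
    have hb : b = a⁻¹ := (inv_eq_of_mul_eq_one_right hx2.1).symm
    subst hb
    have key : ∀ a : _root_.Cfsg.Agent.LFourA.Model.D k, T (f a a⁻¹ * w) := by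
      intro a
      have h1 : f a a⁻¹ * w = f a 1 * w * (f a 1)⁻¹ := by
        rw [f_inv h, fw_mul_f h, inv_one, mul_one, one_mul]
      rw [h1, T_iff hT]
      exact hTw
    refine iff_of_true ?_ (iff_of_true (key a) ?_)
    · rw [mem_range_fw h]
      rcases a with i | i
      · exact Or.inl ⟨i, -i, rfl, inv_r i⟩
      · exact Or.inr ⟨i, i, rfl, sr_inv i⟩
    · have h1 : f (c k) (c k) * (f a a⁻¹ * w) = f (c k * a) (c k * a)⁻¹ * w := by
        rw [f_mul_fw h, mul_inv_rev, c_inv, c_comm a⁻¹]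
      rw [h1]
      exact key _

omit hT in
/-- The roots of `z` are in the subgroup of index two. -/
theorem root_mem {x : X} (hx : x ∈ S) (hx2 : x * x = f (c k) (c k)) : x ∈ (emb h).range := by
  rcases mem_cases h hx with ⟨a, b, rfl⟩ | ⟨a, b, rfl⟩
  · rw [h.f_mul, f_eq_iff h] at hx2
    rw [mem_range_f h]
    have key : ∀ {a : _root_.Cfsg.Agent.LFourA.Model.D k}, a * a = c k → ∃ i, a = r i := by
      intro a ha
      rcases eq_of_sq_c ha with rfl | rfl
      · exact ⟨_, rfl⟩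
      · exact ⟨_, by rw [x0, c, r_mul_r]⟩
    obtain ⟨i, hi⟩ := key hx2.1
    obtain ⟨j, hj⟩ := key hx2.2
    exact Or.inl ⟨i, j, hi, hj⟩
  · rw [fw_mul_fw h, f_eq_iff h] at hx2
    rw [mem_range_fw h]
    have hb : b = a⁻¹ * c k := by rw [← hx2.1, inv_mul_cancel_left]
    subst hb
    rcases a with i | i
    · exact Or.inl ⟨i, _, rfl, by rw [inv_r, c, r_mul_r]⟩
    · exact Or.inr ⟨i, _, rfl, by rw [sr_inv, sr_c]⟩

theorem stable {y : X} (hy : y ∈ S) (hy2 : y * y = 1 ∨ y * y = f (c k) (c k)) {g : X} (hg : g * y * g⁻¹ ∈ S) :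
    g * y * g⁻¹ ∈ (emb h).range ↔ y ∈ (emb h).range := by
  have hsq : g * y * g⁻¹ * (g * y * g⁻¹) = g * (y * y) * g⁻¹ := by group
  rcases hy2 with hy2 | hy2
  · by_cases hy1 : y = 1
    · subst hy1
      rw [mul_one, mul_inv_cancel]
    by_cases hyz : y = f (c k) (c k)
    · rw [hyz, hT.central, mul_inv_cancel_right]
    have h1 : g * y * g⁻¹ ≠ 1 := by
      intro h2
      apply hy1
      have h3 : y = g⁻¹ * (g * y * g⁻¹) * g := by group
      rw [h3, h2]
      group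
    have h2 : g * y * g⁻¹ ≠ f (c k) (c k) := by
      intro h2
      apply hyz
      have h3 : y = g⁻¹ * (g * y * g⁻¹) * g := by group
      rw [h3, h2, hT.central]
      group
    rw [mem_iff_pure h hT hy hy2 hy1 hyz, mem_iff_pure h hT hg (by rw [hsq, hy2]; group) h1 h2, T_iff hT]
    have h3 : f (c k) (c k) * (g * y * g⁻¹) = g * (f (c k) (c k) * y) * g⁻¹ := by
      rw [← mul_assoc, ← mul_assoc, ← hT.central]
      group
    rw [h3, T_iff hT]
  · refine iff_of_true (root_mem h hg ?_) (root_mem h hy hy2)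
    rw [hsq, hy2, hT.central, mul_inv_cancel_right]

end

/-- The transfer. -/
theorem exists_hom {X : Type*} [Group X] [Finite X] {P : Sylow 2 X} {k : ℕ} {f : _root_.Cfsg.Agent.LFourA.Model.D k → _root_.Cfsg.Agent.LFourA.Model.D k → X} {w : X}
    (h : DWr (P : Subgroup X) k f w) {Ty : X → Prop} (hT : ZData f w Ty) :
    ∃ V : X →* ℤˣ, ∀ y ∈ (P : Subgroup X), (V y = 1 ↔ y ∈ (emb h).range) := by
  obtain ⟨V, hV⟩ := Cfsg.Agent.SylowSp4.Extremal.exists_transfer P (emb h).range (relIndex_range h)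
  have hzz : f (c k) (c k) * f (c k) (c k) = 1 := by rw [h.f_mul, c_mul_c, f_one h]
  have hV' : ∀ y ∈ (P : Subgroup X), (y * y = 1 ∨ y * y = f (c k) (c k)) → (V y = 1 ↔ y ∈ (emb h).range) := by
    intro y hy hy2
    apply hV y hy
    intro n g hg
    refine stable h hT (pow_mem hy n) ?_ hg
    have h1 : y ^ n * y ^ n = (y * y) ^ n := by
      rw [← pow_add, ← pow_two, ← pow_mul, two_mul]
    rw [h1]
    rcases hy2 with hy2 | hy2
    · left
      rw [hy2, one_pow]
    · rw [hy2]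
      rcases Nat.even_or_odd n with ⟨m, rfl⟩ | ⟨m, rfl⟩
      · left
        rw [← two_mul, pow_mul, pow_two, hzz, one_pow]
      · right
        rw [pow_succ, pow_mul, pow_two, hzz, one_pow, one_mul]
  have hl : 2 ∣ 2 ^ (k + 1) := dvd_pow_self 2 (Nat.succ_ne_zero k)
  have : NeZero (2 ^ (k + 1)) := ⟨by positivity⟩
  -- `V` is trivial on the subgroup
  have hV2 : ∀ p : Cfsg.Agent.ClassificationK.GTwoModel.T (2 * 2 ^ (k + 1)),
      (p * p = 1 ∨ p * p = T.z (2 ^ (k + 1))) → V (emb h p) = 1 := by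
    intro p hp
    rw [hV' _ (emb_mem h p) ?_]
    · exact ⟨p, rfl⟩
    · rcases hp with hp | hp
      · left
        rw [← map_mul, hp, map_one]
      · right
        rw [← map_mul, hp, emb_z]
  have hphi : ∀ x, V (emb h (phiT (2 ^ (k + 1)) x)) = 1 := by
    have h1 : ∀ i, V (emb h (phiT (2 ^ (k + 1)) (.xa i))) = 1 := by
      intro i
      apply hV2
      right
      rw [← pow_two]
      exact sq_of_e (by rw [← phiT_range]; exact ⟨_, rfl⟩) rfl
    rintro (i | i)
    · have h2 : (QuaternionGroup.a i : QuaternionGroup (2 ^ (k + 1))) =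
          .xa 0 * .xa (i - ((2 ^ (k + 1) : ℕ) : ZMod (2 * 2 ^ (k + 1)))) := by
        rw [QuaternionGroup.xa_mul_xa]
        congr 1
        ring
      rw [h2, map_mul, map_mul, map_mul, h1, h1, one_mul]
    · exact h1 i
  have hpsi : ∀ x, V (emb h (psiT (2 ^ (k + 1)) x)) = 1 := by
    have h1 : ∀ i, V (emb h (psiT (2 ^ (k + 1)) (.xa i))) = 1 := by
      intro i
      apply hV2
      right
      rw [← pow_two]
      exact sq_of_d (by rw [← psiT_range]; exact ⟨_, rfl⟩) rfl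
    rintro (i | i)
    · have h2 : (QuaternionGroup.a i : QuaternionGroup (2 ^ (k + 1))) =
          .xa 0 * .xa (i - ((2 ^ (k + 1) : ℕ) : ZMod (2 * 2 ^ (k + 1)))) := by
        rw [QuaternionGroup.xa_mul_xa]
        congr 1
        ring
      rw [h2, map_mul, map_mul, map_mul, h1, h1, one_mul]
    · exact h1 i
  have hs : V (emb h (sT (2 ^ (k + 1)))) = 1 := by
    have h1 : sT (2 ^ (k + 1)) = T.s (2 ^ (k + 1)) * T.t (2 ^ (k + 1)) := by
      rw [sT, T.s, T.t, T.mul_mk]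
      simp
    rw [h1, map_mul, map_mul, hV2, hV2, one_mul]
    · left
      rw [T.t, T.mul_mk, T.one_def]
      simp
    · left
      rw [T.s, T.mul_mk, T.one_def]
      simp
  have hM : ∀ y ∈ (emb h).range, V y = 1 := by
    rintro _ ⟨p, rfl⟩
    obtain ⟨x, y, rfl | rfl⟩ := cases_all hl p
    · rw [map_mul, map_mul, hphi, hpsi, one_mul]
    · rw [map_mul, map_mul, map_mul, map_mul, hphi, hpsi, hs, one_mul, one_mul]
  refine ⟨V, fun y hy => ⟨fun h1 => ?_, hM y⟩⟩
  by_contra hy'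
  have h2 : f (sr 0) 1 ∉ (emb h).range := by
    rw [mem_range_f h]
    rintro (⟨_, _, h1, -⟩ | ⟨_, _, -, h1⟩)
    · cases h1
    · exact sr_ne_one _ h1.symm
  have h3 : V (f (sr 0) 1) ≠ 1 := by
    rw [Ne, hV' _ (f_mem h _ _) (Or.inl (by rw [h.f_mul, sr_mul_self, one_mul, f_one h]))]
    exact h2
  have h4 : y * f (sr 0) 1 ∈ (emb h).range := by
    have h5 := Subgroup.mul_mem_iff_of_index_two (relIndex_range h) (a := ⟨y, hy⟩) (b := ⟨f (sr 0) 1, f_mem h _ _⟩)
    rw [Subgroup.mem_subgroupOf, Subgroup.mem_subgroupOf, Subgroup.mem_subgroupOf] at h5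
    exact h5.2 (iff_of_false hy' h2)
  have h5 := hM _ h4
  rw [map_mul, h1, one_mul] at h5
  exact h3 h5

end Cfsg.Agent.LFourA.CzTransfer
end

-- part: LFourA/CzSwap
section
/-!
# Two strongly closed quaternion factors which are exchanged by an automorphism

The factors `L₁ ≥ φ.range`, `L₂ ≥ ψ.range` isomorphic to `SL(2, F)` can be chosen to be exchanged by the automorphism.
-/

set_option autoImplicit false

namespace Cfsg.Agent.LFourA.CzSwap

open QuaternionGroup Subgroup Cfsg.Agent.ClassificationK Cfsg.Agent.ClassificationK.GTwoConf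
open Cfsg.Agent.ClassificationK.GTwoFactor

universe u

/-- The two factors. -/
structure Factors {X : Type u} [Group X] [Finite X] {k : ℕ} (P : Sylow 2 X) (φ ψ : QuaternionGroup (2 ^ k) →* X)
    (L₁ L₂ : Subgroup X) : Prop where
  n₁ : L₁.Normal
  n₂ : L₂.Normal
  le₁ : φ.range ≤ L₁
  le₂ : ψ.range ≤ L₂
  inf₁ : L₁ ⊓ (P : Subgroup X) ≤ φ.range
  inf₂ : L₂ ⊓ (P : Subgroup X) ≤ ψ.range
  comm : ⁅L₁, L₂⁆ = ⊥
  sup : L₁ ⊔ L₂ = commutator X
  iso₁ : ∃ (F : Type) (_ : Field F) (_ : Fintype F), Odd (Fintype.card F) ∧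
    Nonempty (L₁ ≃* Matrix.SpecialLinearGroup (Fin 2) F)
  iso₂ : ∃ (F : Type) (_ : Field F) (_ : Fintype F), Odd (Fintype.card F) ∧
    Nonempty (L₂ ≃* Matrix.SpecialLinearGroup (Fin 2) F)

theorem map_centralizer_equiv {X Y : Type*} [Group X] [Group Y] (α : X ≃* Y) (A : Subgroup X) :
    (centralizer (A : Set X)).map α.toMonoidHom = centralizer ((A.map α.toMonoidHom : Subgroup Y) : Set Y) := by
  ext y
  constructor
  · rintro ⟨x, hx, rfl⟩
    rw [mem_centralizer_iff]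
    rintro _ ⟨a, ha, rfl⟩
    rw [← map_mul, mem_centralizer_iff.1 hx a ha, map_mul]
  · intro hy
    refine ⟨α.symm y, ?_, α.apply_symm_apply y⟩
    change _ ∈ centralizer _
    rw [mem_centralizer_iff]
    intro a ha
    have h1 := mem_centralizer_iff.1 hy (α a) ⟨a, ha, rfl⟩
    apply α.injective
    rw [map_mul, map_mul, α.apply_symm_apply, h1]

theorem LK_eq {X : Type u} [Group X] {k : ℕ} (φ : QuaternionGroup (2 ^ k) →* X) (t : X) [hn : (zpowers t).Normal]
    (ht : t ∈ φ.range) : LK φ t = normalClosure (φ.range : Set X) := by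
  have hs : Function.Surjective (QuotientGroup.mk' (zpowers t)) := QuotientGroup.mk'_surjective _
  rw [LK, NK, DK, Subgroup.coe_map, ← Subgroup.map_normalClosure _ _ hs, Subgroup.comap_map_eq, QuotientGroup.ker_mk',
    sup_eq_left]
  rw [zpowers_le]
  exact subset_normalClosure ht

section

variable {X : Type u} [Group X] [Finite X] {k : ℕ} {P : Sylow 2 X} {s : X} {φ ψ : QuaternionGroup (2 ^ k) →* X}

/-- final step: two normal subgroups with all properties except commutativity and the commutator subgroup -/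
theorem factors_of (h : Conf k P s φ ψ) (L M : Subgroup X) (hLn : L.Normal) (hMn : M.Normal)
    (hL : φ.range ≤ L) (hM : ψ.range ≤ M) (hLP : L ⊓ (P : Subgroup X) ≤ φ.range)
    (hMP : M ⊓ (P : Subgroup X) ≤ ψ.range) (hLM : ⁅L, M⁆ ≤ Subgroup.zpowers (Conf.t φ))
    (hLF : ∃ (F₁ : Type) (_ : Field F₁) (_ : Fintype F₁), Odd (Fintype.card F₁) ∧
      Nonempty (↥L ≃* Matrix.SpecialLinearGroup (Fin 2) F₁))
    (hMF : ∃ (F₂ : Type) (_ : Field F₂) (_ : Fintype F₂), Odd (Fintype.card F₂) ∧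
      Nonempty (↥M ≃* Matrix.SpecialLinearGroup (Fin 2) F₂))
    (hLc : L ≤ commutator X) (hMc : M ≤ commutator X) : Factors P φ ψ L M := by
  obtain ⟨F₁, i₁, j₁, ho₁, ⟨e₁⟩⟩ := id hLF
  obtain ⟨F₂, i₂, j₂, ho₂, ⟨e₂⟩⟩ := id hMF
  have h1 : ⁅L, M⁆ = ⊥ := GTwoAfter.commutator_eq_bot (Conf.t φ) (GTwoFactorBasic.Conf.t_center h)
    (GTwoFactorBasic.Conf.orderOf_t h) L M hLM ho₁ e₁
  exact ⟨hLn, hMn, hL, hM, hLP, hMP, h1,
    le_antisymm (sup_le hLc hMc) (GTwoConfBasic.commutator_le h L M hL hM h1 e₁ e₂), hLF, hMF⟩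

theorem exists_swap
    (hC1 : ∀ (G : Type u) [Group G] [Finite G] (P : Sylow 2 G) (A B : Subgroup G), A ⊓ B = ⊥ →
      Cfsg.IsStronglyClosed A (P : Subgroup G) → Cfsg.IsStronglyClosed B (P : Subgroup G) →
      ⁅normalClosure (A : Set G), normalClosure (B : Set G)⁆ ≤ Cfsg.oddCore G)
    (hGW : ∀ (X : Type u) [Group X] [Finite X] [Group.IsPerfect X]
      (S : Sylow 2 X) (n : ℕ), 2 ≤ n → Nonempty ((S : Subgroup X) ≃* DihedralGroup n) →
      (∃ (F : Type) (_ : Field F) (_ : Fintype F), Odd (Fintype.card F) ∧ 3 < Fintype.card F ∧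
        Nonempty (X ⧸ Cfsg.oddCore X ≃* Matrix.ProjectiveSpecialLinearGroup (Fin 2) F)) ∨
      Nonempty (X ⧸ Cfsg.oddCore X ≃* alternatingGroup (Fin 7)))
    (h : Conf k P s φ ψ) (α : X ≃* X) (hα : φ.range.map α.toMonoidHom = ψ.range)
    (hα' : ψ.range.map α.toMonoidHom = φ.range) :
    ∃ L₁ L₂ : Subgroup X, Factors P φ ψ L₁ L₂ ∧ L₁.map α.toMonoidHom = L₂ ∧ L₂.map α.toMonoidHom = L₁ := by
  have hn : (zpowers (Conf.t φ)).Normal := GTwoFactorBasic.Conf.normal_t h
  have ht : Conf.t φ = Conf.t φ := rfl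
  have ht' : Conf.t ψ = Conf.t φ := GTwoFactorBasic.Conf.t_symm h
  have h3 : Fact (Nat.Prime 3) := ⟨Nat.prime_three⟩
  have hc3 : Odd (Fintype.card (ZMod 3)) := by rw [ZMod.card 3]; decide
  have hL0 : φ.range ≤ LK φ (Conf.t φ) := range_le_LK φ (Conf.t φ)
  have hM0 : ψ.range ≤ LK ψ (Conf.t φ) := range_le_LK ψ (Conf.t φ)
  have hLP : LK φ (Conf.t φ) ⊓ (P : Subgroup X) ≤ φ.range := fun x hx => LK_inf_P h ht hC1 x hx.1 hx.2
  have hMP : LK ψ (Conf.t φ) ⊓ (P : Subgroup X) ≤ ψ.range := fun x hx => LK_inf_P h.symm ht' hC1 x hx.1 hx.2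
  have hLM : ⁅LK φ (Conf.t φ), LK ψ (Conf.t φ)⁆ ≤ zpowers (Conf.t φ) := LK_comm h ht hC1
  have hmap : ∀ (φ ψ : QuaternionGroup (2 ^ k) →* X) (_ : Conf k P s φ ψ) (_ : φ.range.map α.toMonoidHom = ψ.range)
      (t : X) [hn : (zpowers t).Normal] (_ : t = Conf.t φ) (_ : t = Conf.t ψ),
      (LK φ t).map α.toMonoidHom = LK ψ t := by
    intro φ ψ h hα t hn h1 h2
    rw [LK_eq φ t (by rw [h1]; exact ⟨_, rfl⟩), LK_eq ψ t (by rw [h2]; exact ⟨_, rfl⟩),
      Subgroup.map_normalClosure _ _ α.surjective, ← hα, Subgroup.coe_map]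
  have hmap1 : (LK φ (Conf.t φ)).map α.toMonoidHom = LK ψ (Conf.t φ) := hmap φ ψ h hα _ rfl ht'.symm
  have hmap2 : (LK ψ (Conf.t φ)).map α.toMonoidHom = LK φ (Conf.t φ) := hmap ψ φ h.symm hα' _ ht'.symm rfl
  have hcard : Nat.card (LK φ (Conf.t φ)) = Nat.card (LK ψ (Conf.t φ)) := by
    rw [← hmap1]
    exact (Nat.card_congr ((LK φ (Conf.t φ)).equivMapOfInjective _ α.injective).toEquiv)
  have hcard' : Nat.card φ.range = Nat.card ψ.range := by
    rw [← hα]
    exact (Nat.card_congr (φ.range.equivMapOfInjective _ α.injective).toEquiv)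
  -- not perfect
  have hnp : ∀ (φ ψ : QuaternionGroup (2 ^ k) →* X) (_ : Conf k P s φ ψ) (L : Subgroup X), L = φ.range →
      commutator L ≠ ⊤ := by
    rintro φ ψ h L rfl hcon
    have h1 : IsPGroup 2 φ.range := P.isPGroup'.to_le (GTwoFactorBasic.Conf.range_le h)
    have h2 : Group.IsNilpotent φ.range := h1.isNilpotent
    have h4 : Nontrivial φ.range := by
      rw [Subgroup.nontrivial_iff_exists_ne_one]
      exact ⟨Conf.t φ, ⟨_, rfl⟩, GTwoFactorBasic.Conf.t_ne h⟩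
    have h5 := Group.IsSolvable.commutator_lt_top_of_nontrivial φ.range
    rw [hcon] at h5
    exact lt_irrefl _ h5
  rcases LK_perfect h ht hC1 with hL | ⟨hk, hL⟩ <;> rcases LK_perfect h.symm ht' hC1 with hM | ⟨hk', hM⟩
  · -- both factors perfect
    obtain ⟨F₁, i₁, j₁, ho₁, -, e₁⟩ := GTwoSLTwo.exists_sl_two hGW h _ hL0 hLP hL
    obtain ⟨F₂, i₂, j₂, ho₂, -, e₂⟩ := GTwoSLTwo.exists_sl_two hGW h.symm _ hM0 hMP hM
    exact ⟨_, _, factors_of h _ _ inferInstance inferInstance hL0 hM0 hLP hMP hLM ⟨F₁, i₁, j₁, ho₁, e₁⟩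
      ⟨F₂, i₂, j₂, ho₂, e₂⟩ (GTwoAfter.le_commutator_of_perfect _ hL) (GTwoAfter.le_commutator_of_perfect _ hM),
      hmap1, hmap2⟩
  · -- the second factor solvable
    exfalso
    apply hnp φ ψ h (LK φ (Conf.t φ)) ?_ hL
    exact (Subgroup.eq_of_le_of_card_ge hL0 (by rw [hcard, hM, hcard'])).symm
  · exfalso
    apply hnp ψ φ h.symm (LK ψ (Conf.t φ)) ?_ hM
    exact (Subgroup.eq_of_le_of_card_ge hM0 (by rw [← hcard, hL, hcard'])).symm
  · -- both factors solvable
    have hφn : φ.range.Normal := by rw [← hL]; infer_instance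
    have hψn : ψ.range.Normal := by rw [← hM]; infer_instance
    have hc : ∀ x, ∀ y ∈ ψ.range, φ x * y = y * φ x := by
      rintro x _ ⟨y, rfl⟩
      exact h.comm x y
    have hc' : ∀ x, ∀ y ∈ φ.range, ψ x * y = y * ψ x := by
      rintro x _ ⟨y, rfl⟩
      exact (h.comm y x).symm
    subst hk
    obtain ⟨h1, h1', h2, h4⟩ := GTwoCenterCase.center_case h hφn ψ.range le_rfl inf_le_left hc (Or.inl rfl)
    obtain ⟨h5, h5', h6, h7⟩ := GTwoCenterCase.center_case h.symm hψn φ.range le_rfl inf_le_left hc' (Or.inl rfl)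
    refine ⟨centralizer (ψ.range : Set X), centralizer (φ.range : Set X),
      factors_of h (centralizer (ψ.range : Set X)) (centralizer (φ.range : Set X)) inferInstance inferInstance
      h1 h5 h1' h5' ?_ ⟨ZMod 3, inferInstance, inferInstance, hc3, h2⟩ ⟨ZMod 3, inferInstance, inferInstance, hc3, h6⟩
      h4 h7, ?_, ?_⟩
    · have h8 : ∀ x ∈ centralizer (ψ.range : Set X) ⊓ centralizer (φ.range : Set X), x = 1 ∨ x = Conf.t φ := by
        refine GTwoFactorBasic.Conf.eq_one_or_eq_t_of_inf h ht _ ?_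
        intro x hx hxP
        have h9 : x ∈ φ.range := h1' ⟨hx.1, hxP⟩
        have h10 : x ∈ ψ.range := h5' ⟨hx.2, hxP⟩
        obtain ⟨u, rfl⟩ := h9
        obtain ⟨v, hv⟩ := h10
        rcases h.inf₁ u v hv.symm with h11 | h11
        · left; rw [h11, map_one]
        · right; rw [h11]; rfl
      have h9 : ⁅centralizer (ψ.range : Set X), centralizer (φ.range : Set X)⁆ ≤
          centralizer (ψ.range : Set X) ⊓ centralizer (φ.range : Set X) :=
        le_inf (Subgroup.commutator_le_left _ _) (Subgroup.commutator_le_right _ _)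
      intro x hx
      exact (GTwoFactorBasic.Conf.mem_zpowers_t h).2 (h8 x (h9 hx))
    · rw [map_centralizer_equiv, hα']
    · rw [map_centralizer_equiv, hα]

end

end Cfsg.Agent.LFourA.CzSwap
end

-- part: LFourA/InvConj
section
/-!
# Conjugacy of the involutions in a Sylow 2-subgroup of type `T (2 l)`

If `z` is central in `X` and the swapping involutions `u`, `w` are conjugate to `a' = (l, 0)`, then all involutions
`p ≠ z` of the even part of `T (2 l)` are conjugate to `a'`.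
-/

set_option autoImplicit false

namespace Cfsg.Agent.LFourA.InvConj

open Cfsg.Agent.ClassificationK.GTwoModel Cfsg.Agent.ClassificationK.GTwoModel.T
open Cfsg.Agent.ClassificationK.GTwoQuat
open Cfsg.Agent.ClassificationK.GTwoModelConf
open Cfsg.Agent.Lib.GoldschmidtFusion
open Subgroup

/-- If `C_S(v)` has index at most two in the Sylow `2`-subgroup `S` and `v` is not conjugate to a central element of
`S`, then elements of 2-power order of `C(v)` can be moved into `S` by elements of `C(v)`. -/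
theorem exists_conj_mem {X : Type*} [Group X] [Finite X] (S : Sylow 2 X) {v : X} (hv : v ∈ (S : Subgroup X))
    (hidx : Nat.card (S : Subgroup X) ≤ 2 * Nat.card ((S : Subgroup X) ⊓ centralizer {v} : Subgroup X))
    (hnc : ∀ g : X, g * v * g⁻¹ ∈ (S : Subgroup X) →
      ∃ s ∈ (S : Subgroup X), s * (g * v * g⁻¹) ≠ g * v * g⁻¹ * s)
    {x : X} (hx : x * v = v * x) {n : ℕ} (hxn : x ^ (2 ^ n) = 1) :
    ∃ m : X, m * v = v * m ∧ m * x * m⁻¹ ∈ (S : Subgroup X) := by
  set N : Subgroup X := centralizer {v} with hN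
  have hNm : ∀ y, y ∈ N ↔ y * v = v * y := by
    intro y
    rw [hN, mem_centralizer_singleton_iff]
  set C : Subgroup X := (S : Subgroup X) ⊓ N with hC
  have hCp : IsPGroup 2 C := S.isPGroup'.to_le inf_le_left
  obtain ⟨R, hCR, hRN, hR, hRi⟩ := exists_sylow_in (p := 2) (N := N) (D := C) inf_le_right hCp
  have hRC : R = C := by
    by_contra hne
    have hlt : C < R := lt_of_le_of_ne hCR (Ne.symm hne)
    -- the order of `R`
    have h1 : 2 * Nat.card C ≤ Nat.card R := by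
      obtain ⟨e, he⟩ := card_dvd_of_le hCR
      have h2 : e ≠ 1 := by
        rintro rfl
        rw [mul_one] at he
        exact hne (Subgroup.eq_of_le_of_card_ge hCR he.le).symm
      have h3 : e ≠ 0 := by
        rintro rfl
        rw [mul_zero] at he
        exact Nat.card_pos.ne' he
      have h4 : 2 ≤ e := by omega
      rw [he, mul_comm]
      exact Nat.mul_le_mul_left _ h4
    obtain ⟨Q, hQ⟩ := hR.exists_le_sylow
    obtain ⟨g, hg⟩ := MulAction.exists_smul_eq X Q S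
    have h5 : Nat.card (Q : Subgroup X) = Nat.card (S : Subgroup X) := by
      rw [← hg]
      exact (Nat.card_congr (MulAut.conj g |>.subgroupMap (Q : Subgroup X)).toEquiv)
    have h6 : R = Q := Subgroup.eq_of_le_of_card_ge hQ (by
      rw [h5]
      exact hidx.trans h1)
    have hgS : ∀ y, g⁻¹ * y * g ∈ (Q : Subgroup X) ↔ y ∈ (S : Subgroup X) := by
      intro y
      rw [← hg, Sylow.coe_subgroup_smul]
      rw [Subgroup.mem_pointwise_smul_iff_inv_smul_mem]
      simp [mul_assoc]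
    have hvR : v ∈ R := hCR ⟨hv, (hNm v).2 rfl⟩
    have h7 : g * v * g⁻¹ ∈ (S : Subgroup X) := by
      rw [← hgS, ← h6]
      have : g⁻¹ * (g * v * g⁻¹) * g = v := by group
      rw [this]
      exact hvR
    obtain ⟨s, hs, hsne⟩ := hnc g h7
    apply hsne
    have h8 : g⁻¹ * s * g ∈ R := by
      rw [h6]
      exact (hgS s).2 hs
    have h9 := (hNm _).1 (hRN h8)
    calc s * (g * v * g⁻¹) = g * (g⁻¹ * s * g * v) * g⁻¹ := by group
      _ = g * (v * (g⁻¹ * s * g)) * g⁻¹ := by rw [h9]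
      _ = g * v * g⁻¹ * s := by group
  have hD : IsPGroup 2 (zpowers x) := by
    rw [IsPGroup.iff_orderOf]
    rintro ⟨y, hy⟩
    obtain ⟨k, rfl⟩ := mem_zpowers_iff.1 hy
    rw [Subgroup.orderOf_mk]
    have h1 : orderOf (x ^ k) ∣ 2 ^ n := by
      rw [orderOf_dvd_iff_pow_eq_one, ← zpow_natCast, ← zpow_mul, mul_comm, zpow_mul, zpow_natCast, hxn, one_zpow]
    obtain ⟨m, -, hm⟩ := (Nat.dvd_prime_pow Nat.prime_two).1 h1
    exact ⟨m, hm⟩
  obtain ⟨m, hm, hmD⟩ := exists_conj_le_in (p := 2) hR hRi (N := N) (D := zpowers x)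
    (by rw [zpowers_le]; exact (hNm x).2 hx) hD
  refine ⟨m, (hNm m).1 hm, ?_⟩
  have h1 : m * x * m⁻¹ ∈ R := hmD (conj_mem_map_conj (mem_zpowers x) m)
  rw [hRC] at h1
  exact h1.1

section

variable {X : Type*} [Group X] [Finite X] {l : ℕ} [NeZero l] (hl : 2 ∣ l) (S : Sylow 2 X) (f : T (2 * l) →* X)
    (hf : Function.Injective f) (hr : f.range = (S : Subgroup X)) (hz : ∀ x, x * f (z l) = f (z l) * x)

theorem comm_a'_iff (p : T (2 * l)) : p * a' l = a' l * p ↔ p.d = false := by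
  obtain ⟨i, j, e, d⟩ := p
  have h0 := half_ne_zero l
  have h1 := neg_half l
  constructor
  · intro h
    cases d
    · rfl
    · exfalso
      rw [a', mul_mk, mul_mk, T.mk.injEq] at h
      obtain ⟨-, h3, -, -⟩ := h
      cases e <;> simp only [sg_false, sg_true, cond_false, cond_true, one_mul, zero_add, neg_mul] at h3
      · apply h0
        linear_combination h3
      · apply h0
        linear_combination -h3
  · intro h
    simp only at h
    subst h
    rw [a', mul_mk, mul_mk]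
    cases e <;> simp only [sg_false, sg_true, cond_false, one_mul, zero_add, neg_mul, Bool.xor_false, Bool.false_xor]
    · congr 1 <;> ring
    · congr 1
      · linear_combination h1
      · ring

/-- a central element of the model group is `1` or `z` -/
theorem central_cases (hl : 2 ∣ l) {p : T (2 * l)} (h : ∀ q, q * p = p * q) : p = 1 ∨ p = z l := by
  have h1 := (comm_c1_iff hl p).1 (h (c1 l)).symm
  have h2 := (comm_c2_iff hl p).1 (h (c2 l)).symm
  obtain ⟨i, j, e, d⟩ := p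
  simp only at h1 h2
  subst h1
  subst h2
  have h3 := h (t l)
  have h4 := h (u l)
  rw [t, mul_mk, mul_mk, T.mk.injEq] at h3
  rw [u, mul_mk, mul_mk, T.mk.injEq] at h4
  simp only [sg_false, sg_true, cond_false, cond_true, one_mul, zero_add, neg_mul, mul_zero, add_zero] at h3 h4
  have h5 : i + i = 0 := by linear_combination -h3.1
  have h6 : j = i := h4.1
  rcases two_half l i h5 with h7 | h7
  · left
    rw [h6, h7]
    rfl
  · right
    rw [h6, h7]
    rfl

/-- the kernel of a homomorphism onto a group of order two -/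
theorem card_le_ker {H K : Type*} [Group H] [Finite H] [Group K] [Finite K] (φ : H →* K) (hK : Nat.card K = 2) :
    Nat.card H ≤ 2 * Nat.card φ.ker := by
  have h1 := φ.ker.card_mul_index
  rw [index_ker] at h1
  have h2 : Nat.card φ.range ≤ 2 := by
    rw [← hK]
    exact Subgroup.card_le_card_group _
  calc Nat.card H = Nat.card φ.ker * Nat.card φ.range := h1.symm
    _ ≤ Nat.card φ.ker * 2 := Nat.mul_le_mul_left _ h2
    _ = 2 * Nat.card φ.ker := mul_comm _ _

include hf hr in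
omit [Finite X] in
theorem card_cent_le [Finite X] {v : T (2 * l)} (β γ : ZMod 2) (h : ∀ p : T (2 * l), lam l 0 β γ p = 1 → p * v = v * p) :
    Nat.card (S : Subgroup X) ≤ 2 * Nat.card ((S : Subgroup X) ⊓ centralizer {f v} : Subgroup X) := by
  have h1 : Nat.card (S : Subgroup X) = Nat.card (T (2 * l)) := by
    rw [← hr]
    exact (Nat.card_congr (MonoidHom.ofInjective hf).toEquiv).symm
  rw [h1]
  refine (card_le_ker (lam l 0 β γ) (by simp)).trans (Nat.mul_le_mul_left _ ?_)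
  have h2 : Nat.card (lam l 0 β γ).ker = Nat.card ((lam l 0 β γ).ker.map f) :=
    (Nat.card_congr ((lam l 0 β γ).ker.equivMapOfInjective f hf).toEquiv)
  rw [h2]
  refine Subgroup.card_le_of_le ?_
  rintro _ ⟨p, hp, rfl⟩
  refine ⟨?_, ?_⟩
  · rw [← hr]
    exact ⟨p, rfl⟩
  · change f p ∈ centralizer {f v}
    rw [mem_centralizer_singleton_iff, ← map_mul, ← map_mul, h p hp]

include hl hf hr hz

omit [Finite X] in
/-- non-central elements -/
theorem not_central {v : T (2 * l)} (hv1 : v ≠ 1) (hvz : v ≠ z l) (g : X)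
    (hg : g * f v * g⁻¹ ∈ (S : Subgroup X)) :
    ∃ s ∈ (S : Subgroup X), s * (g * f v * g⁻¹) ≠ g * f v * g⁻¹ * s := by
  by_contra hcon
  push Not at hcon
  rw [← hr] at hg
  obtain ⟨q, hq⟩ := hg
  rw [← hq] at hcon
  have h1 : ∀ p, p * q = q * p := by
    intro p
    have h2 := hcon (f p) (by rw [← hr]; exact ⟨p, rfl⟩)
    rw [← map_mul, ← map_mul] at h2
    exact hf h2
  rcases central_cases hl h1 with h2 | h2
  · apply hv1
    apply hf
    rw [h2, map_one] at hq
    rw [map_one]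
    have : f v = g⁻¹ * (g * f v * g⁻¹) * g := by group
    rw [this, ← hq]
    group
  · apply hvz
    apply hf
    have : f v = g⁻¹ * (g * f v * g⁻¹) * g := by group
    rw [this, ← hq, h2, mul_assoc, ← hz g]
    group

/-- moving elements of `C(v)` into `S` -/
theorem exists_move {v : T (2 * l)} (hv1 : v ≠ 1) (hvz : v ≠ z l) (β γ : ZMod 2)
    (h : ∀ p : T (2 * l), lam l 0 β γ p = 1 → p * v = v * p) {x : X} (hx : x * f v = f v * x) {n : ℕ}
    (hxn : x ^ (2 ^ n) = 1) : ∃ m : X, m * f v = f v * m ∧ ∃ q, m * x * m⁻¹ = f q := by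
  obtain ⟨m, hm, hmx⟩ := exists_conj_mem S (v := f v) (by rw [← hr]; exact ⟨v, rfl⟩)
    (card_cent_le S f hf hr β γ h) (fun g hg => not_central hl S f hf hr hz hv1 hvz g hg) hx hxn
  rw [← hr] at hmx
  obtain ⟨q, hq⟩ := hmx
  exact ⟨m, hm, q, hq.symm⟩

omit hl hf hr hz [Finite X] [NeZero l] in
theorem good_of_isConj {p q v : T (2 * l)} (h : IsConj p q) (hq : ∃ g, g * f q * g⁻¹ = f v) :
    ∃ g, g * f p * g⁻¹ = f v := by
  obtain ⟨g, hg⟩ := hq
  obtain ⟨c, hc⟩ := isConj_iff.1 h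
  refine ⟨g * f c, ?_⟩
  rw [← hg, ← hc, map_mul, map_mul, map_inv]
  group

omit hl hf hr hz [Finite X] in
theorem good_of_not (hu : ∃ g, g * f (u l) * g⁻¹ = f (a' l)) (hw : ∃ g, g * f (w l) * g⁻¹ = f (a' l))
    {p : T (2 * l)} (hp : p * p = 1) (hp1 : p ≠ 1) (hpz : p ≠ z l) (h : p.e = true → p.d = true) :
    ∃ g, g * f p * g⁻¹ = f (a' l) := by
  obtain ⟨i, j, e, d⟩ := p
  rw [mul_mk, one_def, T.mk.injEq] at hp
  obtain ⟨h1, h2, -, -⟩ := hp
  cases e <;> cases d
  · simp only [sg_false, cond_false, one_mul] at h1 h2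
    rcases two_half l i h1 with rfl | rfl <;> rcases two_half l j h2 with rfl | rfl
    · exact absurd rfl hp1
    · exact good_of_isConj f (isConj_a'_b' l).symm ⟨1, by group⟩
    · exact ⟨1, by rw [one_mul, inv_one, mul_one]; rfl⟩
    · exact absurd rfl hpz
  · simp only [sg_false, cond_true, one_mul] at h1 h2
    have hj : j = -i := eq_neg_of_add_eq_zero_right h1
    subst hj
    have := isConj_swapElt i (0 : ZMod (2 * l))
    rw [neg_zero] at this
    exact good_of_isConj f this hu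
  · exact absurd (h rfl) Bool.false_ne_true
  · simp only [sg_true, cond_true] at h1 h2
    have hj : j = i := by linear_combination -h1
    subst hj
    exact good_of_isConj f (isConj_swapInvElt j 0) hw

/-- all involutions of the even part are conjugate -/
theorem good (hu : ∃ g, g * f (u l) * g⁻¹ = f (a' l)) (hw : ∃ g, g * f (w l) * g⁻¹ = f (a' l))
    {p : T (2 * l)} (hp : p * p = 1) (hp1 : p ≠ 1) (hpz : p ≠ z l) (hpar : par l p.i = par l p.j) :
    ∃ g, g * f p * g⁻¹ = f (a' l) := by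
  by_cases hcase : p.e = true → p.d = true
  · exact good_of_not f hu hw hp hp1 hpz hcase
  push Not at hcase
  obtain ⟨hpe, hpd⟩ := hcase
  obtain ⟨x, y, hxy⟩ := cases_even hl p hpar
  set a := phiT l x with ha
  set b := psiT l y with hb
  have haQ : a ∈ Q1 l := by rw [← phiT_range]; exact ⟨x, rfl⟩
  have hbQ : b ∈ Q2 l := by rw [← psiT_range]; exact ⟨y, rfl⟩
  have hab : a * b = b * a := comm_of_mem haQ hbQ
  have hexy : a.e = true ∧ b.d = true := by
    have hpd' : p.d = false := by simpa using hpd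
    clear_value a b
    obtain ⟨i, j, e, d⟩ := a
    obtain ⟨i', j', e', d'⟩ := b
    have h1 : e = d := (mem_Q1.1 haQ).1
    have h2 : e' = false := (mem_Q2.1 hbQ).1
    subst h1
    subst h2
    rw [hxy, mul_mk] at hpe hpd'
    simp only at hpe hpd' ⊢
    cases e
    · exact absurd hpe (by decide)
    · refine ⟨rfl, ?_⟩
      cases d'
      · exact absurd hpd' (by decide)
      · rfl
  have ha2 : a ^ 2 = z l := sq_of_e haQ hexy.1
  have hb2 : b ^ 2 = z l := sq_of_d hbQ hexy.2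
  have hc1b : c1 l * b = b * c1 l := comm_of_mem c1_mem hbQ
  have hzz : z l * z l = 1 := by rw [← pow_two]; exact z_sq
  -- the involution `b c₁`
  have h1 : (b * c1 l) * (b * c1 l) = 1 := by
    calc (b * c1 l) * (b * c1 l) = b * (c1 l * b) * c1 l := by group
      _ = b ^ 2 * c1 l ^ 2 := by rw [hc1b, pow_two, pow_two]; group
      _ = 1 := by rw [hb2, c1_sq hl, hzz]
  have hbd : (b * c1 l).d = true := by
    have h5 := hexy.2
    clear_value b
    obtain ⟨i, j, e, d⟩ := b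
    simp only at h5
    rw [c1, mul_mk, h5]
    rfl
  have h2 : b * c1 l ≠ 1 := by
    intro h
    rw [h, one_def] at hbd
    exact Bool.false_ne_true hbd
  have h3 : b * c1 l ≠ z l := by
    intro h
    rw [h, z] at hbd
    exact Bool.false_ne_true hbd
  obtain ⟨g1, hg1⟩ := good_of_not f hu hw h1 h2 h3 (fun _ => hbd)
  have hk1 : (1 : ZMod 2) * 0 = 0 := by decide
  have ha'1 : a' l ≠ 1 := by
    intro h
    rw [a', one_def, T.mk.injEq] at h
    exact half_ne_zero l h.1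
  have ha'z : a' l ≠ z l := by
    intro h
    rw [a', z, T.mk.injEq] at h
    exact half_ne_zero l h.2.1.symm
  have hc2sq : c2 l ^ 2 = z l := c2_sq hl
  have hc21 : c2 l ≠ 1 := by
    intro h
    rw [h, one_pow] at hc2sq
    exact z_ne hc2sq.symm
  have hc2z : c2 l ≠ z l := by
    intro h
    rw [h, z_sq] at hc2sq
    exact z_ne hc2sq.symm
  have h4 : (g1 * f (c1 l) * g1⁻¹) * f (a' l) = f (a' l) * (g1 * f (c1 l) * g1⁻¹) := by
    rw [← hg1]
    have h5 : f (c1 l) * f (b * c1 l) = f (b * c1 l) * f (c1 l) := by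
      rw [← map_mul, ← map_mul, ← mul_assoc, hc1b]
    calc g1 * f (c1 l) * g1⁻¹ * (g1 * f (b * c1 l) * g1⁻¹) = g1 * (f (c1 l) * f (b * c1 l)) * g1⁻¹ := by group
      _ = g1 * (f (b * c1 l) * f (c1 l)) * g1⁻¹ := by rw [h5]
      _ = _ := by group
  have h6 : (g1 * f (c1 l) * g1⁻¹) ^ (2 ^ 2) = 1 := by
    rw [conj_pow, ← map_pow]
    have : c1 l ^ (2 ^ 2) = 1 := by
      rw [show (2 ^ 2 : ℕ) = 2 * 2 by norm_num, pow_mul, c1_sq hl, z_sq]
    rw [this, map_one]
    group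
  obtain ⟨m, hm, q, hq⟩ := exists_move hl S f hf hr hz ha'1 ha'z 0 1 (by
    intro p hp
    rw [comm_a'_iff]
    rw [lam_eq_one_iff] at hp
    simp only [zero_mul, zero_add, one_mul] at hp
    cases hd : p.d
    · rfl
    · rw [hd] at hp
      exact absurd hp (by decide)) h4 h6
  set g2 := m * g1 with hg2
  have h7 : g2 * f (c1 l) * g2⁻¹ = f q := by
    rw [← hq, hg2]
    group
  have h8 : g2 * f (b * c1 l) * g2⁻¹ = f (a' l) := by
    have : g2 * f (b * c1 l) * g2⁻¹ = m * (g1 * f (b * c1 l) * g1⁻¹) * m⁻¹ := by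
      rw [hg2]; group
    rw [this, hg1, hm, mul_inv_cancel_right]
  have hqQ : q ∈ Q1 l := Cfsg.Agent.ClassificationK.GTwoClosed.closed1 hl S f hf hr hz c1_mem h7
  have hqsq : q ^ 2 = z l := by
    apply hf
    rw [map_pow, ← h7, conj_pow, ← map_pow, c1_sq hl, hz, mul_inv_cancel_right]
  have hqa : q * a' l = a' l * q := by
    apply hf
    rw [map_mul, map_mul, ← h7, ← h8]
    have h5 : f (c1 l) * f (b * c1 l) = f (b * c1 l) * f (c1 l) := by
      rw [← map_mul, ← map_mul, ← mul_assoc, hc1b]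
    calc g2 * f (c1 l) * g2⁻¹ * (g2 * f (b * c1 l) * g2⁻¹) = g2 * (f (c1 l) * f (b * c1 l)) * g2⁻¹ := by group
      _ = g2 * (f (b * c1 l) * f (c1 l)) * g2⁻¹ := by rw [h5]
      _ = _ := by group
  have hqd : q.d = false := (comm_a'_iff q).1 hqa
  have hqe : q.e = false := by rw [(mem_Q1.1 hqQ).1, hqd]
  -- the image of `b`
  have h9 : g2 * f b * g2⁻¹ = f (a' l * q⁻¹) := by
    rw [map_mul, map_inv, ← h7, ← h8, map_mul]
    group
  have hc12 : c1 l * c2 l = a' l := c1_mul_c2 hl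
  have hc12' : c1 l * c2 l = c2 l * c1 l := comm_of_mem c1_mem c2_mem
  obtain ⟨q2, hq2, hq2c⟩ : ∃ q2, a' l * q⁻¹ = q2 ∧ (q2 = c2 l ∨ q2 = (c2 l)⁻¹) := by
    refine ⟨_, rfl, ?_⟩
    rcases eq_c1_of_sq hl hqQ hqe hqsq with h | h
    · left
      rw [h, ← hc12, hc12', mul_inv_cancel_right]
    · right
      rw [h, ← hc12, inv_inv, hc12', mul_assoc, ← pow_two, c1_sq hl, ← hc2sq]
      rw [← pow_succ', eq_inv_iff_mul_eq_one, ← pow_succ, show (2 + 1 + 1 : ℕ) = 2 * 2 by norm_num, pow_mul, hc2sq, z_sq]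
  rw [hq2] at h9
  -- the image of `a` commutes with `c₂`
  have h10 : (g2 * f a * g2⁻¹) * f (c2 l) = f (c2 l) * (g2 * f a * g2⁻¹) := by
    have h11 : Commute (g2 * f a * g2⁻¹) (g2 * f b * g2⁻¹) := by
      have h12 : f a * f b = f b * f a := by rw [← map_mul, ← map_mul, hab]
      change g2 * f a * g2⁻¹ * (g2 * f b * g2⁻¹) = g2 * f b * g2⁻¹ * (g2 * f a * g2⁻¹)
      calc g2 * f a * g2⁻¹ * (g2 * f b * g2⁻¹) = g2 * (f a * f b) * g2⁻¹ := by group
        _ = g2 * (f b * f a) * g2⁻¹ := by rw [h12]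
        _ = _ := by group
    rw [h9] at h11
    rcases hq2c with h | h
    · rw [h] at h11
      exact h11
    · rw [h, map_inv] at h11
      have := h11.inv_right
      rw [inv_inv] at this
      exact this
  have h11 : (g2 * f a * g2⁻¹) ^ (2 ^ 2) = 1 := by
    rw [conj_pow, ← map_pow]
    have : a ^ (2 ^ 2) = 1 := by
      rw [show (2 ^ 2 : ℕ) = 2 * 2 by norm_num, pow_mul, ha2, z_sq]
    rw [this, map_one]
    group
  obtain ⟨m', hm', s, hs⟩ := exists_move hl S f hf hr hz hc21 hc2z 1 1 (by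
    intro p hp
    rw [comm_c2_iff hl]
    rw [lam_eq_one_iff] at hp
    simp only [zero_mul, zero_add, one_mul] at hp
    cases he : p.e <;> cases hd : p.d
    · rfl
    · rw [hd, he] at hp
      exact absurd hp (by decide)
    · rw [hd, he] at hp
      exact absurd hp (by decide)
    · rfl) h10 h11
  have h12 : (m' * g2) * f a * (m' * g2)⁻¹ = f s := by
    rw [← hs]
    group
  have hsQ : s ∈ Q1 l := Cfsg.Agent.ClassificationK.GTwoClosed.closed1 hl S f hf hr hz haQ h12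
  have h13 : (m' * g2) * f b * (m' * g2)⁻¹ = f q2 := by
    have h14 : (m' * g2) * f b * (m' * g2)⁻¹ = m' * (g2 * f b * g2⁻¹) * m'⁻¹ := by group
    rw [h14, h9]
    have h15 : Commute m' (f (c2 l)) := hm'
    rcases hq2c with h | h
    · rw [h, h15.eq, mul_inv_cancel_right]
    · rw [h, map_inv, h15.inv_right.eq, mul_inv_cancel_right]
  have h14 : (m' * g2) * f p * (m' * g2)⁻¹ = f (s * q2) := by
    rw [hxy, map_mul, map_mul, ← h12, ← h13]
    group
  have h15 : (s * q2) * (s * q2) = 1 := by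
    apply hf
    rw [map_mul, ← h14, map_one]
    calc m' * g2 * f p * (m' * g2)⁻¹ * (m' * g2 * f p * (m' * g2)⁻¹) = m' * g2 * (f p * f p) * (m' * g2)⁻¹ := by group
      _ = 1 := by rw [← map_mul, hp, map_one]; group
  have h16 : s * q2 ≠ 1 := by
    intro h
    rw [h, map_one] at h14
    apply hp1
    apply hf
    rw [map_one]
    have : f p = (m' * g2)⁻¹ * (m' * g2 * f p * (m' * g2)⁻¹) * (m' * g2) := by group
    rw [this, h14]
    group
  have h17 : s * q2 ≠ z l := by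
    intro h
    rw [h] at h14
    apply hpz
    apply hf
    have : f p = (m' * g2)⁻¹ * (m' * g2 * f p * (m' * g2)⁻¹) * (m' * g2) := by group
    rw [this, h14, mul_assoc, ← hz]
    group
  have h18 : (s * q2).e = true → (s * q2).d = true := by
    have h19 : q2.e = false ∧ q2.d = false := by
      rcases hq2c with h | h <;> rw [h, c2] <;> exact ⟨rfl, rfl⟩
    have h20 := (mem_Q1.1 hsQ).1
    obtain ⟨i, j, e, d⟩ := s
    obtain ⟨i', j', e', d'⟩ := q2
    simp only at h19 h20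
    rw [mul_mk, h19.1, h19.2, h20]
    intro h
    exact h
  obtain ⟨g, hg⟩ := good_of_not f hu hw h15 h16 h17 h18
  refine ⟨g * (m' * g2), ?_⟩
  rw [← hg, ← h14]
  group

end

end Cfsg.Agent.LFourA.InvConj
end

-- part: LFourA/CzMain
section
/-!
# The structure of `C(z)/O(C(z))`, case I
-/

set_option autoImplicit false

namespace Cfsg.Agent.LFourA.CzMain

open DihedralGroup Cfsg.Agent.LFourA.Model Cfsg.Agent.LFourA.Base Cfsg.Agent.LFourA.Defs
open Cfsg.Agent.LFourA.CzData Cfsg.Agent.LFourA.CzEmb Cfsg.Agent.LFourA.CzSwap Cfsg.Agent.LFourA.OddFree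
open Cfsg.Agent.ClassificationK
open Cfsg.Agent.ClassificationK.GTwoModel
open Cfsg.Agent.ClassificationK.GTwoQuat
open Cfsg.Agent.ClassificationK.GTwoModelConf
open Cfsg.Agent.ClassificationK.GTwoConf

universe u

/-- the automorphism `a i ↦ a (-i)`, `xa i ↦ xa (-i)` of the quaternion group -/
def sig {n : ℕ} : QuaternionGroup n → QuaternionGroup n
  | .a i => .a (-i)
  | .xa i => .xa (-i)

theorem sig_sig {n : ℕ} (x : QuaternionGroup n) : sig (sig x) = x := by
  rcases x with i | i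
  · change QuaternionGroup.a (- -i) = _
    rw [neg_neg]
  · change QuaternionGroup.xa (- -i) = _
    rw [neg_neg]

section

variable {X : Type*} [Group X] {S : Subgroup X} {k : ℕ} {f : _root_.Cfsg.Agent.LFourA.Model.D k → _root_.Cfsg.Agent.LFourA.Model.D k → X} {w : X} (h : DWr S k f w)

include h

/-- conjugation by `(y, 1)` exchanges the two quaternion groups -/
theorem conj_phi (x : QuaternionGroup (2 ^ (k + 1))) :
    f (sr 0) 1 * emb h (phiT _ x) * (f (sr 0) 1)⁻¹ = emb h (psiT _ (sig x)) := by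
  have hh := half_add_half (2 ^ (k + 1))
  rcases x with i | i
  · change _ = emb h (psiT _ (.a (-i)))
    rw [phiT_a, psiT_a, emb_mk_false, emb_mk_false, f_conj h, de_false, de_false, de_false, sr_r_sr, inv_r]
    simp only [_root_.one_mul, _root_.inv_one, _root_.mul_one, _root_.map_neg, _root_.neg_neg]
  · change _ = emb h (psiT _ (.xa (-i)))
    rw [phiT_xa, psiT_xa, emb_mk_true, emb_mk_true, f_inv h, ← mul_assoc, h.f_mul, fw_mul_f h, de_true, de_true,
      de_false, de_false, sr_mul_sr, inv_one, mul_one, one_mul, sr_inv, sr_mul_sr]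
    congr 3
    · simp only [map_add, map_neg, neg_neg, sub_zero]
      have h1 : kap k ((2 ^ (k + 1) : ℕ) : ZMod (2 * 2 ^ (k + 1))) + kap k ((2 ^ (k + 1) : ℕ) : ZMod (2 * 2 ^ (k + 1))) = 0 := by
        rw [← map_add, hh, map_zero]
      linear_combination -h1
    · simp only [_root_.map_neg, _root_.neg_neg, _root_.zero_sub]

theorem conj_psi (x : QuaternionGroup (2 ^ (k + 1))) :
    f (sr 0) 1 * emb h (psiT _ x) * (f (sr 0) 1)⁻¹ = emb h (phiT _ (sig x)) := by
  have h1 : f (sr 0) 1 * f (sr 0) 1 = 1 := by rw [h.f_mul, sr_mul_self, one_mul, f_one h]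
  have h2 : (f (sr 0) 1)⁻¹ = f (sr 0) 1 := inv_eq_of_mul_eq_one_left h1
  have h3 := conj_phi h (sig x)
  rw [sig_sig] at h3
  rw [← h3, h2]
  calc f (sr 0) 1 * (f (sr 0) 1 * emb h (phiT _ (sig x)) * f (sr 0) 1) * f (sr 0) 1 =
      (f (sr 0) 1 * f (sr 0) 1) * emb h (phiT _ (sig x)) * (f (sr 0) 1 * f (sr 0) 1) := by group
    _ = _ := by rw [h1, one_mul, mul_one]

end

/-- The structure of `C(z)/O(C(z))`, case I: `V` is the homomorphism with kernel the normaliser of the two factors. -/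
structure CzOut {X : Type u} [Group X] {S : Subgroup X} {k : ℕ} {f : _root_.Cfsg.Agent.LFourA.Model.D k → _root_.Cfsg.Agent.LFourA.Model.D k → X} {w : X} (h : DWr S k f w)
    (V : X →* ℤˣ) (L₁ L₂ : Subgroup X) : Prop where
  V_iff : ∀ y ∈ S, (V y = 1 ↔ y ∈ (emb h).range)
  V_L₁ : ∀ a ∈ L₁, V a = 1
  V_L₂ : ∀ a ∈ L₂, V a = 1
  norm₁ : ∀ g, V g = 1 → ∀ a ∈ L₁, g * a * g⁻¹ ∈ L₁
  norm₂ : ∀ g, V g = 1 → ∀ a ∈ L₂, g * a * g⁻¹ ∈ L₂
  swap₁ : ∀ g, V g ≠ 1 → ∀ a ∈ L₁, g * a * g⁻¹ ∈ L₂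
  swap₂ : ∀ g, V g ≠ 1 → ∀ a ∈ L₂, g * a * g⁻¹ ∈ L₁
  comm : ∀ a ∈ L₁, ∀ b ∈ L₂, a * b = b * a
  comm_le : ∀ g g', V g = 1 → V g' = 1 → g * g' * g⁻¹ * g'⁻¹ ∈ L₁ ⊔ L₂
  le₁ : ∀ x, emb h (phiT _ x) ∈ L₁
  le₂ : ∀ x, emb h (psiT _ x) ∈ L₂
  inf₁ : ∀ y ∈ S, y ∈ L₁ → ∃ x, y = emb h (phiT _ x)
  inf₂ : ∀ y ∈ S, y ∈ L₂ → ∃ x, y = emb h (psiT _ x)
  iso : ∃ (F : Type) (_ : Field F) (_ : Fintype F), Odd (Fintype.card F) ∧
    Nonempty (L₁ ≃* Matrix.SpecialLinearGroup (Fin 2) F) ∧ Nonempty (L₂ ≃* Matrix.SpecialLinearGroup (Fin 2) F)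
  cent : ∀ g, (∀ a ∈ L₁, g * a = a * g) → (∀ b ∈ L₂, g * b = b * g) → g = 1 ∨ g = f (c k) (c k)

theorem units_mul {a b : ℤˣ} (ha : a ≠ 1) (hb : b ≠ 1) : a * b = 1 := by
  rcases Int.units_eq_one_or a with h | h
  · exact absurd h ha
  · rcases Int.units_eq_one_or b with h' | h'
    · exact absurd h' hb
    · rw [h, h']; decide

section

variable {X : Type u} [Group X] [Finite X]

set_option maxHeartbeats 1000000 in
theorem main
    (hC1 : ∀ (G : Type u) [Group G] [Finite G] (P : Sylow 2 G) (A B : Subgroup G), A ⊓ B = ⊥ →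
      Cfsg.IsStronglyClosed A (P : Subgroup G) → Cfsg.IsStronglyClosed B (P : Subgroup G) →
      ⁅Subgroup.normalClosure (A : Set G), Subgroup.normalClosure (B : Set G)⁆ ≤ Cfsg.oddCore G)
    (hGW : ∀ (X : Type u) [Group X] [Finite X] [Group.IsPerfect X]
      (S : Sylow 2 X) (n : ℕ), 2 ≤ n → Nonempty ((S : Subgroup X) ≃* DihedralGroup n) →
      (∃ (F : Type) (_ : Field F) (_ : Fintype F), Odd (Fintype.card F) ∧ 3 < Fintype.card F ∧
        Nonempty (X ⧸ Cfsg.oddCore X ≃* Matrix.ProjectiveSpecialLinearGroup (Fin 2) F)) ∨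
      Nonempty (X ⧸ Cfsg.oddCore X ≃* alternatingGroup (Fin 7)))
    (hO : Cfsg.oddCore X = ⊥) {P : Sylow 2 X} {k : ℕ} {f : _root_.Cfsg.Agent.LFourA.Model.D k → _root_.Cfsg.Agent.LFourA.Model.D k → X} {w : X}
    (h : DWr (P : Subgroup X) k f w) {Ty : X → Prop} (hT : ZData f w Ty) :
    ∃ (V : X →* ℤˣ) (L₁ L₂ : Subgroup X), CzOut h V L₁ L₂ := by
  obtain ⟨V, hV⟩ := CzTransfer.exists_hom h hT
  have hl : 2 ∣ 2 ^ (k + 1) := dvd_pow_self 2 (Nat.succ_ne_zero k)
  have hne : NeZero (2 ^ (k + 1)) := ⟨by positivity⟩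
  set s : X := f (sr 0) 1 with hs
  have hsP : s ∈ (P : Subgroup X) := f_mem h _ _
  have hss : s * s = 1 := by rw [hs, h.f_mul, sr_mul_self, one_mul, f_one h]
  have hVs : V s ≠ 1 := by
    rw [Ne, hV _ hsP, hs, mem_range_f h]
    rintro (⟨_, _, h1, -⟩ | ⟨_, _, -, h1⟩)
    · cases h1
    · exact sr_ne_one _ h1.symm
  have hmem : ∀ p, emb h p ∈ V.ker := by
    intro p
    rw [MonoidHom.mem_ker, hV _ (emb_mem h p)]
    exact ⟨p, rfl⟩
  -- the normal subgroup of index two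
  let H : Subgroup X := V.ker
  let F : T (2 * 2 ^ (k + 1)) →* H := (emb h).codRestrict H hmem
  have hFc : ∀ p, (F p : X) = emb h p := fun p => rfl
  have hFi : Function.Injective F := by
    intro p q hpq
    exact emb_inj h (congrArg Subtype.val hpq)
  have hFr : F.range = (sylN P H : Subgroup H) := by
    ext y
    rw [mem_sylN]
    constructor
    · rintro ⟨p, rfl⟩
      exact emb_mem h p
    · intro hy
      obtain ⟨p, hp⟩ := (hV _ hy).1 (MonoidHom.mem_ker.1 y.2)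
      exact ⟨p, Subtype.ext hp⟩
  have hFz : ∀ x, x * F (T.z (2 ^ (k + 1))) = F (T.z (2 ^ (k + 1))) * x := by
    intro x
    apply Subtype.ext
    change (x : X) * emb h _ = emb h _ * (x : X)
    rw [emb_z]
    exact hT.central _
  have hOH : Cfsg.oddCore H = ⊥ := oddCore_eq_bot hO H
  -- conjugacy of the swapping involutions
  have hcorr : ∀ y : X, (∃ g : X, g * y * g⁻¹ = f (c k) 1) → ∃ g : X, V g = 1 ∧ g * y * g⁻¹ = f (c k) 1 := by
    rintro y ⟨g, hg⟩
    by_cases hg1 : V g = 1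
    · exact ⟨g, hg1, hg⟩
    · refine ⟨s * g, ?_, ?_⟩
      · rw [map_mul]; exact units_mul hVs hg1
      · have e : s * g * y * (s * g)⁻¹ = s * (g * y * g⁻¹) * s⁻¹ := by group
        rw [e, hg, hs, f_conj h, ← c_comm, mul_inv_cancel_right, mul_one, inv_one, mul_one]
  have hu : ∃ g, g * F (T.u (2 ^ (k + 1))) * g⁻¹ = F (T.a' (2 ^ (k + 1))) := by
    obtain ⟨g, hg1, hg⟩ := hcorr w hT.w_t
    refine ⟨⟨g, hg1⟩, Subtype.ext ?_⟩
    change g * emb h _ * g⁻¹ = emb h _
    rw [emb_u, emb_a', hg]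
  have hw : ∃ g, g * F (T.w (2 ^ (k + 1))) * g⁻¹ = F (T.a' (2 ^ (k + 1))) := by
    obtain ⟨g, hg1, hg⟩ := hcorr (f (sr 0) (sr 0) * w) (by
      obtain ⟨g, hg⟩ := hT.w_t
      refine ⟨g * s, ?_⟩
      rw [← hg]
      have e : s * (f (sr 0) (sr 0) * w) * s⁻¹ = w := by
        have h2 : s⁻¹ = s := inv_eq_of_mul_eq_one_left hss
        rw [h2, hs, f_mul_fw h, fw_mul_f h, sr_mul_self, one_mul, one_mul, sr_mul_self, f_one h, one_mul]
      have e2 : g * s * (f (sr 0) (sr 0) * w) * (g * s)⁻¹ = g * (s * (f (sr 0) (sr 0) * w) * s⁻¹) * g⁻¹ := by group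
      rw [e2, e])
    refine ⟨⟨g, hg1⟩, Subtype.ext ?_⟩
    change g * emb h _ * g⁻¹ = emb h _
    rw [emb_w, emb_a', hg]
  have hconf : Conf (k + 1) (sylN P H) (F (sT (2 ^ (k + 1)))) (F.comp (phiT (2 ^ (k + 1))))
      (F.comp (psiT (2 ^ (k + 1)))) :=
    conf (k + 1) (by omega) hOH (sylN P H) F hFi hFr hFz
      (fun g p q hp hg => GTwoClosed.closed1 hl (sylN P H) F hFi hFr hFz hp hg)
      (fun g p q hp hg => GTwoClosed.closed2 hl (sylN P H) F hFi hFr hFz hp hg)
      (fun p hp hp1 hpz hpar => InvConj.good hl (sylN P H) F hFi hFr hFz hu hw hp hp1 hpz hpar)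
  -- the automorphism
  let α : H ≃* H := MulAut.conjNormal s
  have hαc : ∀ x : H, (α x : X) = s * x * s⁻¹ := fun x => MulAut.conjNormal_apply s x
  have hα1 : ∀ x, α (F (phiT _ x)) = F (psiT _ (sig x)) := by
    intro x
    apply Subtype.ext
    rw [hαc, hFc, hFc]
    exact conj_phi h x
  have hα2 : ∀ x, α (F (psiT _ x)) = F (phiT _ (sig x)) := by
    intro x
    apply Subtype.ext
    rw [hαc, hFc, hFc]
    exact conj_psi h x
  have hα : (F.comp (phiT (2 ^ (k + 1)))).range.map α.toMonoidHom = (F.comp (psiT (2 ^ (k + 1)))).range := by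
    ext y
    constructor
    · rintro ⟨_, ⟨x, rfl⟩, rfl⟩
      exact ⟨sig x, (hα1 x).symm⟩
    · rintro ⟨x, rfl⟩
      refine ⟨_, ⟨sig x, rfl⟩, ?_⟩
      have h1 := hα1 (sig x)
      rw [sig_sig] at h1
      exact h1
  have hα' : (F.comp (psiT (2 ^ (k + 1)))).range.map α.toMonoidHom = (F.comp (phiT (2 ^ (k + 1)))).range := by
    ext y
    constructor
    · rintro ⟨_, ⟨x, rfl⟩, rfl⟩
      exact ⟨sig x, (hα2 x).symm⟩
    · rintro ⟨x, rfl⟩
      refine ⟨_, ⟨sig x, rfl⟩, ?_⟩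
      have h1 := hα2 (sig x)
      rw [sig_sig] at h1
      exact h1
  obtain ⟨L₁, L₂, hL, hL12, hL21⟩ := exists_swap hC1 hGW hconf α hα hα'
  have hn₁ := hL.n₁
  have hn₂ := hL.n₂
  have hHV : ∀ x : H, V (x : X) = 1 := fun x => MonoidHom.mem_ker.1 x.2
  have norm : ∀ (L : Subgroup H) [L.Normal], ∀ g, V g = 1 → ∀ a ∈ L.map H.subtype, g * a * g⁻¹ ∈ L.map H.subtype := by
    rintro L hLn g hg _ ⟨x, hx, rfl⟩
    exact ⟨⟨g, hg⟩ * x * ⟨g, hg⟩⁻¹, hLn.conj_mem x hx _, rfl⟩
  have swap : ∀ (L M : Subgroup H) [L.Normal], L.map α.toMonoidHom = M → ∀ g, V g ≠ 1 → ∀ a ∈ L.map H.subtype,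
      g * a * g⁻¹ ∈ M.map H.subtype := by
    rintro L _ hLn rfl g hg a ha
    have h1 : V (s⁻¹ * g) = 1 := by
      rw [map_mul, map_inv]
      have h2 : (V s)⁻¹ ≠ 1 := inv_ne_one.2 hVs
      exact units_mul h2 hg
    obtain ⟨x, hx, hxe⟩ := norm L (s⁻¹ * g) h1 a ha
    refine ⟨α x, ⟨x, hx, rfl⟩, ?_⟩
    change (α x : X) = _
    rw [hαc]
    have h2 : (x : X) = s⁻¹ * g * a * (s⁻¹ * g)⁻¹ := hxe
    rw [h2]
    group
  have hcomm : ∀ a ∈ L₁.map H.subtype, ∀ b ∈ L₂.map H.subtype, a * b = b * a := by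
    rintro _ ⟨x, hx, rfl⟩ _ ⟨y, hy, rfl⟩
    have h1 := Subgroup.commutator_mem_commutator hx hy
    rw [hL.comm, Subgroup.mem_bot, commutatorElement_eq_one_iff_mul_comm] at h1
    exact congrArg Subtype.val h1
  have hinf₁ : ∀ y ∈ (P : Subgroup X), y ∈ L₁.map H.subtype → ∃ x, y = emb h (phiT _ x) := by
    rintro _ hyP ⟨y, hy, rfl⟩
    obtain ⟨x, hx⟩ := hL.inf₁ ⟨hy, hyP⟩
    exact ⟨x, (congrArg Subtype.val hx).symm⟩
  have hinf₂ : ∀ y ∈ (P : Subgroup X), y ∈ L₂.map H.subtype → ∃ x, y = emb h (psiT _ x) := by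
    rintro _ hyP ⟨y, hy, rfl⟩
    obtain ⟨x, hx⟩ := hL.inf₂ ⟨hy, hyP⟩
    exact ⟨x, (congrArg Subtype.val hx).symm⟩
  have hle₁ : ∀ x, emb h (phiT _ x) ∈ L₁.map H.subtype := fun x => ⟨F (phiT _ x), hL.le₁ ⟨x, rfl⟩, rfl⟩
  have hle₂ : ∀ x, emb h (psiT _ x) ∈ L₂.map H.subtype := fun x => ⟨F (psiT _ x), hL.le₂ ⟨x, rfl⟩, rfl⟩
  refine ⟨V, L₁.map H.subtype, L₂.map H.subtype, ?_⟩
  refine
  { V_iff := hV
    V_L₁ := ?_
    V_L₂ := ?_
    norm₁ := norm L₁
    norm₂ := norm L₂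
    swap₁ := swap L₁ L₂ hL12
    swap₂ := swap L₂ L₁ hL21
    comm := hcomm
    comm_le := ?_
    le₁ := hle₁
    le₂ := hle₂
    inf₁ := hinf₁
    inf₂ := hinf₂
    iso := ?_
    cent := ?_ }
  · rintro _ ⟨x, -, rfl⟩
    exact hHV x
  · rintro _ ⟨x, -, rfl⟩
    exact hHV x
  · intro g g' hg hg'
    rw [← Subgroup.map_sup, hL.sup]
    have h1 := Subgroup.commutator_mem_commutator (Subgroup.mem_top (⟨g, hg⟩ : H)) (Subgroup.mem_top (⟨g', hg'⟩ : H))
    rw [commutatorElement_def] at h1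
    exact ⟨_, h1, rfl⟩
  · obtain ⟨K, i1, i2, hodd, ⟨e⟩⟩ := hL.iso₁
    refine ⟨K, i1, i2, hodd, ?_, ?_⟩
    · exact ⟨(L₁.equivMapOfInjective _ H.subtype_injective).symm.trans e⟩
    · have e2 : L₁ ≃* L₂ := (L₁.equivMapOfInjective α.toMonoidHom α.injective).trans (MulEquiv.subgroupCongr hL12)
      exact ⟨(L₂.equivMapOfInjective _ H.subtype_injective).symm.trans (e2.symm.trans e)⟩
  · intro g hg₁ hg₂
    let C : Subgroup X := Subgroup.centralizer (L₁.map H.subtype : Set X) ⊓ Subgroup.centralizer (L₂.map H.subtype : Set X)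
    have hCm : ∀ y, y ∈ C ↔ (∀ a ∈ L₁.map H.subtype, y * a = a * y) ∧ (∀ b ∈ L₂.map H.subtype, y * b = b * y) := by
      intro y
      change (y ∈ Subgroup.centralizer _ ∧ y ∈ Subgroup.centralizer _) ↔ _
      rw [Subgroup.mem_centralizer_iff, Subgroup.mem_centralizer_iff]
      constructor
      · rintro ⟨h1, h2⟩
        exact ⟨fun a ha => (h1 a ha).symm, fun a ha => (h2 a ha).symm⟩
      · rintro ⟨h1, h2⟩
        exact ⟨fun a ha => (h1 a ha).symm, fun a ha => (h2 a ha).symm⟩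
    have hconj : ∀ y ∈ C, ∀ g, ∀ a, (g⁻¹ * a * g ∈ L₁.map H.subtype ∨ g⁻¹ * a * g ∈ L₂.map H.subtype) →
        g * y * g⁻¹ * a = a * (g * y * g⁻¹) := by
      intro y hy g a ha
      have h1 : y * (g⁻¹ * a * g) = g⁻¹ * a * g * y := by
        rcases ha with ha | ha
        · exact ((hCm y).1 hy).1 _ ha
        · exact ((hCm y).1 hy).2 _ ha
      calc g * y * g⁻¹ * a = g * (y * (g⁻¹ * a * g)) * g⁻¹ := by group
        _ = g * (g⁻¹ * a * g * y) * g⁻¹ := by rw [h1]
        _ = a * (g * y * g⁻¹) := by group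
    have hCn : C.Normal := by
      refine ⟨fun y hy g => ?_⟩
      rw [hCm]
      have hinv : g⁻¹⁻¹ = g := inv_inv g
      by_cases hg : V g⁻¹ = 1
      · refine ⟨fun a ha => hconj y hy g a (Or.inl ?_), fun a ha => hconj y hy g a (Or.inr ?_)⟩
        · have := norm L₁ g⁻¹ hg a ha
          rwa [hinv] at this
        · have := norm L₂ g⁻¹ hg a ha
          rwa [hinv] at this
      · refine ⟨fun a ha => hconj y hy g a (Or.inr ?_), fun a ha => hconj y hy g a (Or.inl ?_)⟩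
        · have := swap L₁ L₂ hL12 g⁻¹ hg a ha
          rwa [hinv] at this
        · have := swap L₂ L₁ hL21 g⁻¹ hg a ha
          rwa [hinv] at this
    have hkey : ∀ y ∈ C, y ∈ (P : Subgroup X) → y = 1 ∨ y = f (c k) (c k) := by
      intro y hy hyP
      have hyV : V y = 1 := by
        by_contra hyV
        have h1 := swap L₁ L₂ hL12 y hyV _ (hle₁ (.xa 0))
        rw [((hCm y).1 hy).1 _ (hle₁ (.xa 0)), mul_inv_cancel_right] at h1
        obtain ⟨x, hx⟩ := hinf₂ _ (emb_mem h _) h1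
        rcases (eq_one_or (emb_inj h hx)).1 with h2 | h2
        · rw [QuaternionGroup.one_def] at h2
          cases h2
        · cases h2
      rcases GTwoConfBasic.eq_of_comm hconf ⟨y, hyV⟩ hyP
        (fun x => Subtype.ext (((hCm y).1 hy).1 _ (hle₁ x))) (fun x => Subtype.ext (((hCm y).1 hy).2 _ (hle₂ x)))
        with h1 | h1
      · left
        exact congrArg Subtype.val h1
      · right
        rw [← emb_z h]
        exact congrArg Subtype.val h1
    have hCP : C ≤ P := by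
      apply le_of_central hO P C
      intro y hy hyP g _
      rcases hkey y hy hyP with h1 | h1
      · rw [h1, mul_one, one_mul]
      · rw [h1, hT.central]
    have hgC : g ∈ C := (hCm g).2 ⟨hg₁, hg₂⟩
    exact hkey g hgC (hCP hgC)

end

end Cfsg.Agent.LFourA.CzMain
end

-- part: LFourA/CzFinal
section
/-!
# The structure of `C(z)` modulo its odd core, case I
-/

set_option autoImplicit false

namespace Cfsg.Agent.LFourA.CzFinal

open DihedralGroup Cfsg.Agent.LFourA.Model Cfsg.Agent.LFourA.Base Cfsg.Agent.LFourA.Defs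
open Cfsg.Agent.LFourA.CzData Cfsg.Agent.LFourA.CzEmb Cfsg.Agent.LFourA.CzMain Cfsg.Agent.LFourA.Quot
open Cfsg.Agent.ClassificationK.GTwoModelConf Cfsg.Agent.LFourA.CzCt Subgroup

universe u

/-- membership in the core of the centraliser -/
theorem mem_core {G : Type*} [Group G] {z : G} (x : centralizer ({z} : Set G)) :
    (x : G) ∈ Cfsg.centralizerPPrimeCore 2 z ↔ x ∈ Cfsg.oddCore (centralizer ({z} : Set G)) := by
  constructor
  · rintro ⟨y, hy, hyx⟩
    have h1 : y = x := Subtype.ext hyx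
    rwa [← h1]
  · intro hx
    exact ⟨x, hx, rfl⟩

theorem main
    (hC1 : ∀ (G : Type u) [Group G] [Finite G] (P : Sylow 2 G) (A B : Subgroup G), A ⊓ B = ⊥ →
      Cfsg.IsStronglyClosed A (P : Subgroup G) → Cfsg.IsStronglyClosed B (P : Subgroup G) →
      ⁅Subgroup.normalClosure (A : Set G), Subgroup.normalClosure (B : Set G)⁆ ≤ Cfsg.oddCore G)
    (hGW : ∀ (X : Type u) [Group X] [Finite X] [Group.IsPerfect X]
      (S : Sylow 2 X) (n : ℕ), 2 ≤ n → Nonempty ((S : Subgroup X) ≃* DihedralGroup n) →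
      (∃ (F : Type) (_ : Field F) (_ : Fintype F), Odd (Fintype.card F) ∧ 3 < Fintype.card F ∧
        Nonempty (X ⧸ Cfsg.oddCore X ≃* Matrix.ProjectiveSpecialLinearGroup (Fin 2) F)) ∨
      Nonempty (X ⧸ Cfsg.oddCore X ≃* alternatingGroup (Fin 7)))
    {G : Type u} [Group G] [Finite G] {P : Sylow 2 G} {k : ℕ} {f : D k → D k → G} {w : G}
    (h : DWr (P : Subgroup G) k f w) (hI : CaseI f w) :
    ∃ (X : Type u) (_ : Group X) (_ : Finite X) (p : centralizer ({f (c k) (c k)} : Set G) →* X) (K₁ K₂ : Subgroup X)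
      (F : Type) (_ : Field F) (_ : Fintype F), Odd (Fintype.card F) ∧ CZL (f (c k) (c k)) F p K₁ K₂ ∧
        ZPos f w p K₁ K₂ := by
  set C := centralizer ({f (c k) (c k)} : Set G) with hC
  have h' := dwr_sub h (sylow_le h)
  have h'' := dwr h'
  obtain ⟨V, L₁, L₂, hL⟩ := CzMain.main hC1 hGW oddCore_quot h'' ((zdata h hI).quot h')
  obtain ⟨F, i1, i2, hodd, hF₁, hF₂⟩ := hL.iso
  have hz : pr C (self (f (c k) (c k))) ∈ L₂ := by
    have h1 := hL.le₂ (.a ((2 ^ (k + 1) : ℕ) : ZMod (2 * 2 ^ (k + 1))))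
    rw [psiT_z, emb_z] at h1
    exact h1
  have hz' : pr C (self (f (c k) (c k))) ∈ L₁ := by
    have h1 := hL.le₁ (.a ((2 ^ (k + 1) : ℕ) : ZMod (2 * 2 ^ (k + 1))))
    rw [phiT_z, emb_z] at h1
    exact h1
  refine ⟨C ⧸ Cfsg.oddCore C, inferInstance, inferInstance, pr C, L₂, L₁, F, i1, i2, hodd, ⟨⟨pr_surj, ?_, ?_, hz, hz',
    ?_, ?_, ?_⟩, hF₂, hF₁⟩, ⟨?_, ?_, ?_, ?_⟩⟩
  · intro x
    rw [mem_core, pr_eq_one]
  · intro x hx y hy
    exact (hL.comm y hy x hx).symm
  · intro x hx hx'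
    refine hL.cent x ?_ ?_
    · intro a ha
      exact (hL.comm a ha x hx).symm
    · intro b hb
      exact hL.comm x hx' b hb
  · intro g
    by_cases hg : V g = 1
    · exact Or.inl ⟨hL.norm₂ g hg, hL.norm₁ g hg⟩
    · exact Or.inr ⟨hL.swap₂ g hg, hL.swap₁ g hg⟩
  · intro g h1 h2
    exact hL.cent g h2 h1
  · intro i
    rw [mem_up]
    refine ⟨sylow_le h (f_mem h _ _), ?_⟩
    have h1 := hL.le₂ (.a ((kap k).symm i))
    rw [psiT_a, emb_mk_false, de_false, de_false, map_neg, RingEquiv.apply_symm_apply] at h1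
    exact h1
  · rw [mem_up]
    refine ⟨sylow_le h (fw_mem h _ _), ?_⟩
    have h1 := hL.le₂ (.xa ((2 ^ (k + 1) : ℕ) : ZMod (2 * 2 ^ (k + 1))))
    rw [psiT_xa, emb_mk_true, de_false, de_false, neg_add_cancel, map_zero, kap_half, ← map_mul] at h1
    exact h1
  · intro i
    rw [mem_up]
    refine ⟨sylow_le h (f_mem h _ _), ?_⟩
    have h1 := hL.le₁ (.a ((kap k).symm i))
    rw [phiT_a, emb_mk_false, de_false, RingEquiv.apply_symm_apply] at h1
    exact h1
  · rw [mem_up]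
    refine ⟨sylow_le h (fw_mem h _ _), ?_⟩
    have h1 := hL.le₁ (.xa ((2 ^ (k + 1) : ℕ) : ZMod (2 * 2 ^ (k + 1))))
    rw [phiT_xa, emb_mk_true, de_true, de_true, neg_add_cancel, map_zero, map_neg, kap_half, neg_zero, neg_neg,
      ← map_mul] at h1
    rw [sr_c, zero_add]
    exact h1

end Cfsg.Agent.LFourA.CzFinal
end

-- part: LFourB/StepSixModel
section
/-!
# The group `M7`: the two quaternion subgroups of `Q` (S0510, type B5, step 6)
-/

set_option autoImplicit false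

namespace Cfsg.Agent.LFourB.StepSixModel

open Cfsg.Agent.LFourB K4 M7

/-- test for the first quaternion group -/
def t1 (x : M7) : Bool := K4.pr x.a && K4.pr x.b && (z0 (x.a + x.b) == !x.e) && (K4.pr x.c == !x.e)
/-- test for the second quaternion group -/
def t2 (x : M7) : Bool := K4.pr x.a && z0 (x.a + x.b) && (K4.pr x.c == (z0 x.a == !x.e))
/-- test for the class of `x2` -/
def cx (x : M7) : Bool := !K4.pr x.a && z0 x.b && !x.e
/-- test for the class of `y2` -/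
def cy (x : M7) : Bool := z0 x.a && !K4.pr x.b && !x.e
/-- test for the subgroup `V1 ⊓ Q` of order 8 -/
def tB (x : M7) : Bool := K4.pr x.a && z0 x.b && !x.e

def Q1 : Subgroup M7 := sub t1 (by decide) (by (set_option synthInstance.maxSize 2000 in open scoped Cfsg.Agent.Lib.Hoist in decide +kernel)) (by decide +kernel)
def Q2 : Subgroup M7 := sub t2 (by decide) (by (set_option synthInstance.maxSize 2000 in open scoped Cfsg.Agent.Lib.Hoist in decide +kernel)) (by decide +kernel)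
def B1 : Subgroup M7 := sub tB (by decide) (by (set_option synthInstance.maxSize 2000 in open scoped Cfsg.Agent.Lib.Hoist in decide +kernel)) (by decide +kernel)

instance : DecidablePred (· ∈ Q1) := fun x => inferInstanceAs (Decidable (t1 x = true))
instance : DecidablePred (· ∈ Q2) := fun x => inferInstanceAs (Decidable (t2 x = true))
instance : DecidablePred (· ∈ B1) := fun x => inferInstanceAs (Decidable (tB x = true))

/-- a conjugating element -/
def kx (m : M7) : M7 := ⟨o, m.c * m.a * m.a, o, z0 (m.a + v)⟩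
def ky (m : M7) : M7 := ⟨m.c * m.b * m.b, o, o, z0 (m.b + v)⟩

theorem conj_kx : ∀ m : M7, cx m = true → kx m * x2 * (kx m)⁻¹ = m := by decide +kernel
theorem conj_ky : ∀ m : M7, cy m = true → ky m * y2 * (ky m)⁻¹ = m := by decide +kernel

theorem inv_cases : ∀ m : M7, m * m = 1 → m ∈ Q ∨ cx m = true ∨ cy m = true := by decide +kernel

theorem cx_not_R1 : ∀ m : M7, cx m = true → m ∉ R1 := by decide +kernel
theorem cx_R2 : ∀ m : M7, cx m = true → m ∈ R2 := by decide +kernel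
theorem cy_R1 : ∀ m : M7, cy m = true → m ∈ R1 := by decide +kernel
theorem cy_not_R2 : ∀ m : M7, cy m = true → m ∉ R2 := by decide +kernel
theorem Q_iff : ∀ m : M7, m ∈ Q ↔ m ∈ R1 ∧ m ∈ R2 := by decide +kernel
theorem cx_not_Q : ∀ m : M7, cx m = true → m ∉ Q := by decide +kernel
theorem cy_not_Q : ∀ m : M7, cy m = true → m ∉ Q := by decide +kernel
/-- decomposition into involutions -/
theorem decomp : ∀ m : M7, m = ⟨o, o, m.c, false⟩ * ⟨o, m.b, o, false⟩ * ⟨m.a, o, o, false⟩ * ⟨o, o, o, m.e⟩ := by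
  decide +kernel
theorem sq_c : ∀ x : K4, (⟨o, o, x, false⟩ : M7) * ⟨o, o, x, false⟩ = 1 := by decide +kernel
theorem sq_b : ∀ x : K4, (⟨o, x, o, false⟩ : M7) * ⟨o, x, o, false⟩ = 1 := by decide +kernel
theorem sq_a : ∀ x : K4, (⟨x, o, o, false⟩ : M7) * ⟨x, o, o, false⟩ = 1 := by decide +kernel
theorem sq_e : ∀ x : Bool, (⟨o, o, o, x⟩ : M7) * ⟨o, o, o, x⟩ = 1 := by decide +kernel
theorem c_mem : ∀ x : K4, (⟨o, o, x, false⟩ : M7) ∈ Q := by decide +kernel
theorem e_mem : ∀ x : Bool, (⟨o, o, o, x⟩ : M7) ∈ Q := by decide +kernel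
theorem b_mem : ∀ x : K4, (⟨o, x, o, false⟩ : M7) ∈ R1 := by decide +kernel
theorem a_mem : ∀ x : K4, (⟨x, o, o, false⟩ : M7) ∈ R2 := by decide +kernel
theorem a_iff : ∀ m : M7, (⟨m.a, o, o, false⟩ : M7) ∈ R1 ↔ m ∈ R1 := by decide +kernel
theorem b_iff : ∀ m : M7, (⟨o, m.b, o, false⟩ : M7) ∈ R2 ↔ m ∈ R2 := by decide +kernel

theorem R1_xor : ∀ m : M7, Xor (m * x2 ∈ R1) (m ∈ R1) := by decide +kernel
theorem R2_xor : ∀ m : M7, Xor (m * y2 ∈ R2) (m ∈ R2) := by decide +kernel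

theorem index_R1 : R1.index = 2 := Subgroup.index_eq_two_iff.2 ⟨x2, fun b => R1_xor b⟩
theorem index_R2 : R2.index = 2 := Subgroup.index_eq_two_iff.2 ⟨y2, fun b => R2_xor b⟩

theorem Q1_le : ∀ m : M7, m ∈ Q1 → m ∈ Q := by decide +kernel
theorem Q2_le : ∀ m : M7, m ∈ Q2 → m ∈ Q := by decide +kernel
theorem B1_le : ∀ m : M7, m ∈ B1 → m ∈ Q := by decide +kernel
theorem B1_le_V1 : ∀ m : M7, m ∈ B1 → m ∈ V1 := by decide +kernel
theorem z_mem_Q1 : z ∈ Q1 := by decide
theorem z_mem_Q2 : z ∈ Q2 := by decide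
theorem z_mem_B1 : z ∈ B1 := by decide
theorem z_mem_Q : z ∈ Q := by decide
theorem z_ne : z ≠ 1 := by decide
theorem z_sq : z * z = 1 := by decide
theorem z_comm : ∀ m : M7, m * z = z * m := by decide +kernel
theorem Q_sq : ∀ m : M7, m ∈ Q → m * m = 1 ∨ m * m = z := by decide +kernel
theorem Q1_Q2 : ∀ m : M7, m ∈ Q1 → m ∈ Q2 → m = 1 ∨ m = z := by decide +kernel
theorem Q1_B1 : ∀ m : M7, m ∈ Q1 → m ∈ B1 → m = 1 ∨ m = z := by decide +kernel
theorem Q2_B1 : ∀ m : M7, m ∈ Q2 → m ∈ B1 → m = 1 ∨ m = z := by decide +kernel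
theorem Q1_four : ∀ m : M7, m ∈ Q1 → m = 1 ∨ m = z ∨ m * m = z := by decide +kernel
theorem Q2_four : ∀ m : M7, m ∈ Q2 → m = 1 ∨ m = z ∨ m * m = z := by decide +kernel
theorem four_cases : ∀ m : M7, m ∈ Q → m * m = z → (m ∈ Q1 ↔ m ∉ Q2) := by decide +kernel

set_option maxRecDepth 10000 in
theorem side : ∀ x : M7, x ∈ Q → x * x = z → ∀ y : M7, y ∈ Q → y * y = z →
    ((x ∈ Q1 ↔ y ∈ Q1) ↔ (x * y ≠ y * x ∨ y = x ∨ y = x * z)) := by decide +kernel

private noncomputable def _root_.Cfsg.Agent.LsF.f8776b6_0 : {f // @Cfsg.Agent.LFourB.K4.add = f} := ⟨_, by first | (delta Cfsg.Agent.LFourB.K4.add; (try delta Cfsg.Agent.LFourB.K4.add.match_1); (try delta Cfsg.Agent.LFourB.K4.casesOn); exact rfl) | exact rfl⟩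
private noncomputable def _root_.Cfsg.Agent.LsF.f8776b6_1 : {f // @Cfsg.Agent.LFourB.K4.sq = f} := ⟨_, by first | (delta Cfsg.Agent.LFourB.K4.sq; (try delta Cfsg.Agent.LFourB.K4.sq.match_1); (try delta Cfsg.Agent.LFourB.K4.casesOn); exact rfl) | exact rfl⟩
private noncomputable def _root_.Cfsg.Agent.LsF.f8776b6_2 : {f // @Cfsg.Agent.LFourB.K4.fr = f} := ⟨_, by first | (delta Cfsg.Agent.LFourB.K4.fr; rewrite [Cfsg.Agent.LsF.f8776b6_1.2, Cfsg.Agent.LsF.cond_eq]; exact rfl) | exact rfl⟩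
private noncomputable def _root_.Cfsg.Agent.LsF.f8776b6_3 : {f // @Cfsg.Agent.LFourB.K4.mul = f} := ⟨_, by first | (delta Cfsg.Agent.LFourB.K4.mul; (try delta Cfsg.Agent.LFourB.K4.mul.match_1); (try delta Cfsg.Agent.LFourB.K4.casesOn); exact rfl) | exact rfl⟩
private noncomputable def _root_.Cfsg.Agent.LsF.f8776b6_4 : {f // @Cfsg.Agent.LFourB.M7.mul = f} := ⟨_, by first | (delta Cfsg.Agent.LFourB.M7.mul; rewrite [(show (HAdd.hAdd : Cfsg.Agent.LFourB.K4 → Cfsg.Agent.LFourB.K4 → Cfsg.Agent.LFourB.K4) = Cfsg.Agent.LFourB.K4.add from rfl), (show (HMul.hMul : Cfsg.Agent.LFourB.K4 → Cfsg.Agent.LFourB.K4 → Cfsg.Agent.LFourB.K4) = Cfsg.Agent.LFourB.K4.mul from rfl), Cfsg.Agent.LsF.f8776b6_0.2, Cfsg.Agent.LsF.f8776b6_2.2, Cfsg.Agent.LsF.f8776b6_3.2, Cfsg.Agent.LsF.bxor_eq]; exact rfl) | exact rfl⟩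
private noncomputable def _root_.Cfsg.Agent.LsF.f8776b6_12 : {f // @Cfsg.Agent.LFourB.K4.decForall = f} := ⟨_, by first | (delta Cfsg.Agent.LFourB.K4.decForall; rewrite [Cfsg.Agent.LsF.dAnd_eq, Cfsg.Agent.LsF.dIff_eq]; exact rfl) | exact rfl⟩
private noncomputable def _root_.Cfsg.Agent.LsF.f8776b6_13 : {f // @Cfsg.Agent.LFourB.M7.decForall = f} := ⟨_, by first | (delta Cfsg.Agent.LFourB.M7.decForall; rewrite [Cfsg.Agent.LsF.f8776b6_12.2, Cfsg.Agent.LsF.dAnd_eq, Cfsg.Agent.LsF.dIff_eq]; exact rfl) | exact rfl⟩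
private noncomputable def _root_.Cfsg.Agent.LsF.f8776b6_14 : {f // @Cfsg.Agent.LFourB.instDecidableEqK4 = f} := ⟨_, by first | (delta Cfsg.Agent.LFourB.instDecidableEqK4; rewrite [Cfsg.Agent.LsF.instDecEq_eq, Cfsg.Agent.LsF.dite_eq]; exact rfl) | exact rfl⟩
private noncomputable def _root_.Cfsg.Agent.LsF.f8776b6_15 : {f // @Cfsg.Agent.LFourB.instDecidableEqM7.decEq = f} := ⟨_, by first | (delta Cfsg.Agent.LFourB.instDecidableEqM7.decEq; rewrite [Cfsg.Agent.LsF.f8776b6_14.2, Cfsg.Agent.LsF.dBoolEq_eq, Cfsg.Agent.LsF.dite_eq]; (try delta Cfsg.Agent.LFourB.instDecidableEqM7.decEq.match_1); (try delta Cfsg.Agent.LFourB.M7.casesOn); exact rfl) | exact rfl⟩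
private noncomputable def _root_.Cfsg.Agent.LsF.f8776b6_16 : {f // @Cfsg.Agent.LFourB.instDecidableEqM7 = f} := ⟨_, by first | (delta Cfsg.Agent.LFourB.instDecidableEqM7; rewrite [Cfsg.Agent.LsF.f8776b6_15.2]; exact rfl) | exact rfl⟩
set_option maxRecDepth 10000 in
theorem Q_comm : ∀ x : M7, x ∈ Q → ∀ y : M7, y ∈ Q → x * y = y * x ∨ x * y = y * x * z := by (refine of_decide_eq_true ?_; (try (delta Cfsg.Agent.LFourB.M7.instDecidablePredMemSubgroupQ Cfsg.Agent.LFourB.M7.instDecidablePredMemSubgroupQ._aux_1; rewrite [(show (HMul.hMul : Cfsg.Agent.LFourB.M7 → Cfsg.Agent.LFourB.M7 → Cfsg.Agent.LFourB.M7) = Cfsg.Agent.LFourB.M7.mul from rfl), Cfsg.Agent.LsF.f8776b6_4.2, Cfsg.Agent.LsF.f8776b6_13.2, Cfsg.Agent.LsF.f8776b6_16.2, Cfsg.Agent.LsF.dOr_eq, Cfsg.Agent.LsF.dBoolEq_eq, Cfsg.Agent.LsF.dAllP_eq, Cfsg.Agent.LsF.decide_eq])); decide +kernel)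

theorem card_filter {p : M7 → Prop} [DecidablePred p] (A : Subgroup M7) (h : ∀ m, m ∈ A ↔ p m) :
    Nat.card A = (Finset.univ.filter p).card := by
  have h1 : Nat.card A = Nat.card {m // p m} := Nat.card_congr (Equiv.subtypeEquivRight h)
  rw [h1, Nat.card_eq_fintype_card, Fintype.card_subtype]

theorem card_Q : Nat.card Q = 32 := by
  rw [card_filter Q (p := (· ∈ Q)) (fun _ => Iff.rfl)]; decide +kernel
theorem card_V1 : Nat.card V1 = 16 := by
  rw [card_filter V1 (p := (· ∈ V1)) (fun _ => Iff.rfl)]; decide +kernel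

/-! ### Pure elements -/

/-- normalising the two quaternion groups -/
def tU (x : M7) : Bool := K4.pr x.a == K4.pr x.b

theorem tU_iff : ∀ m : M7, tU m = true ↔ (m ∈ R1 ↔ m ∈ R2) := by decide +kernel
theorem tU_Q : ∀ m : M7, m ∈ Q → tU m = true := by decide +kernel
theorem tU_x2 : tU x2 = false := by decide

private noncomputable def _root_.Cfsg.Agent.LsF.f8776b6_8 : {f // @Cfsg.Agent.LFourB.K4.pr = f} := ⟨_, by first | (delta Cfsg.Agent.LFourB.K4.pr; (try delta Cfsg.Agent.LFourB.K4.pr.match_1); (try delta Cfsg.Agent.LFourB.K4.casesOn); exact rfl) | exact rfl⟩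
private noncomputable def _root_.Cfsg.Agent.LsF.f8776b6_18 : {f // @Cfsg.Agent.LFourB.StepSixModel.tU = f} := ⟨_, by first | (delta Cfsg.Agent.LFourB.StepSixModel.tU; rewrite [Cfsg.Agent.LsF.f8776b6_8.2, Cfsg.Agent.LsF.bbeq_pat]; exact rfl) | exact rfl⟩
private noncomputable def _root_.Cfsg.Agent.LsF.f8776b6_6 : {f // @Cfsg.Agent.LFourB.M7.inv = f} := ⟨_, by first | (delta Cfsg.Agent.LFourB.M7.inv; rewrite [(show (HAdd.hAdd : Cfsg.Agent.LFourB.K4 → Cfsg.Agent.LFourB.K4 → Cfsg.Agent.LFourB.K4) = Cfsg.Agent.LFourB.K4.add from rfl), (show (HMul.hMul : Cfsg.Agent.LFourB.K4 → Cfsg.Agent.LFourB.K4 → Cfsg.Agent.LFourB.K4) = Cfsg.Agent.LFourB.K4.mul from rfl), Cfsg.Agent.LsF.f8776b6_2.2, Cfsg.Agent.LsF.f8776b6_0.2, Cfsg.Agent.LsF.f8776b6_3.2]; exact rfl) | exact rfl⟩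
set_option maxRecDepth 10000 in
theorem keep1 : ∀ q : M7, q ∈ Q1 → ∀ m : M7, tU m = true → m * q * m⁻¹ ∈ Q1 := by (refine of_decide_eq_true ?_; (try (delta Cfsg.Agent.LFourB.StepSixModel.instDecidablePredM7MemSubgroupQ1 Cfsg.Agent.LFourB.StepSixModel.instDecidablePredM7MemSubgroupQ1._aux_1; rewrite [(show (HMul.hMul : Cfsg.Agent.LFourB.M7 → Cfsg.Agent.LFourB.M7 → Cfsg.Agent.LFourB.M7) = Cfsg.Agent.LFourB.M7.mul from rfl), (show (Inv.inv : Cfsg.Agent.LFourB.M7 → Cfsg.Agent.LFourB.M7) = Cfsg.Agent.LFourB.M7.inv from rfl), Cfsg.Agent.LsF.f8776b6_18.2, Cfsg.Agent.LsF.f8776b6_4.2, Cfsg.Agent.LsF.f8776b6_6.2, Cfsg.Agent.LsF.f8776b6_13.2, Cfsg.Agent.LsF.dBoolEq_eq, Cfsg.Agent.LsF.dAllP_eq, Cfsg.Agent.LsF.decide_eq])); decide +kernel)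
set_option maxRecDepth 10000 in
theorem swap1 : ∀ q : M7, q ∈ Q1 → ∀ m : M7, tU m = false → m * q * m⁻¹ ∈ Q2 := by (refine of_decide_eq_true ?_; (try (delta Cfsg.Agent.LFourB.StepSixModel.instDecidablePredM7MemSubgroupQ1 Cfsg.Agent.LFourB.StepSixModel.instDecidablePredM7MemSubgroupQ1._aux_1 Cfsg.Agent.LFourB.StepSixModel.instDecidablePredM7MemSubgroupQ2 Cfsg.Agent.LFourB.StepSixModel.instDecidablePredM7MemSubgroupQ2._aux_1; rewrite [(show (HMul.hMul : Cfsg.Agent.LFourB.M7 → Cfsg.Agent.LFourB.M7 → Cfsg.Agent.LFourB.M7) = Cfsg.Agent.LFourB.M7.mul from rfl), (show (Inv.inv : Cfsg.Agent.LFourB.M7 → Cfsg.Agent.LFourB.M7) = Cfsg.Agent.LFourB.M7.inv from rfl), Cfsg.Agent.LsF.f8776b6_18.2, Cfsg.Agent.LsF.f8776b6_4.2, Cfsg.Agent.LsF.f8776b6_6.2, Cfsg.Agent.LsF.f8776b6_13.2, Cfsg.Agent.LsF.dBoolEq_eq, Cfsg.Agent.LsF.dAllP_eq, Cfsg.Agent.LsF.decide_eq])); decide +kernel)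
set_option maxRecDepth 10000 in
theorem swap2 : ∀ q : M7, q ∈ Q2 → ∀ m : M7, tU m = false → m * q * m⁻¹ ∈ Q1 := by (refine of_decide_eq_true ?_; (try (delta Cfsg.Agent.LFourB.StepSixModel.instDecidablePredM7MemSubgroupQ1 Cfsg.Agent.LFourB.StepSixModel.instDecidablePredM7MemSubgroupQ1._aux_1 Cfsg.Agent.LFourB.StepSixModel.instDecidablePredM7MemSubgroupQ2 Cfsg.Agent.LFourB.StepSixModel.instDecidablePredM7MemSubgroupQ2._aux_1; rewrite [(show (HMul.hMul : Cfsg.Agent.LFourB.M7 → Cfsg.Agent.LFourB.M7 → Cfsg.Agent.LFourB.M7) = Cfsg.Agent.LFourB.M7.mul from rfl), (show (Inv.inv : Cfsg.Agent.LFourB.M7 → Cfsg.Agent.LFourB.M7) = Cfsg.Agent.LFourB.M7.inv from rfl), Cfsg.Agent.LsF.f8776b6_18.2, Cfsg.Agent.LsF.f8776b6_4.2, Cfsg.Agent.LsF.f8776b6_6.2, Cfsg.Agent.LsF.f8776b6_13.2, Cfsg.Agent.LsF.dBoolEq_eq, Cfsg.Agent.LsF.dAllP_eq, Cfsg.Agent.LsF.decide_eq])); decide +kernel)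

/-- an element of order 4 of `Q1` -/
def a1 : M7 := ⟨i, i, o, false⟩
def b1 : M7 := ⟨o, i, w, true⟩
def a2 : M7 := ⟨i, i, v, false⟩
def b2 : M7 := ⟨o, o, w, true⟩
def s : M7 := ⟨w, w, o, false⟩

theorem a1_mem : a1 ∈ Q1 := by decide
theorem a1_sq : a1 * a1 = z := by decide
theorem x1_x2 : x2 * x1 = x1 * x2 := by decide

local instance (priority := high) decExists (p : M7 → Prop) [DecidablePred p] : Decidable (∃ x, p x) :=
  decidable_of_iff (∃ a b c : K4, p ⟨a, b, c, false⟩ ∨ p ⟨a, b, c, true⟩)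
    ⟨fun ⟨a, b, c, h⟩ => by
      rcases h with h | h
      · exact ⟨_, h⟩
      · exact ⟨_, h⟩,
      fun ⟨⟨a, b, c, e⟩, h⟩ => by
        cases e
        · exact ⟨a, b, c, Or.inl h⟩
        · exact ⟨a, b, c, Or.inr h⟩⟩

private noncomputable def _root_.Cfsg.Agent.LsF.f8776b6_20 : {f // @Cfsg.Agent.LFourB.K4.decExists = f} := ⟨_, by first | (delta Cfsg.Agent.LFourB.K4.decExists; rewrite [Cfsg.Agent.LsF.dOr_eq, Cfsg.Agent.LsF.dIff_eq]; exact rfl) | exact rfl⟩
private noncomputable def _root_.Cfsg.Agent.LsF.f8776b6_21 : {f // @Cfsg.Agent.LFourB.StepSixModel.decExists = f} := ⟨_, by first | (delta Cfsg.Agent.LFourB.StepSixModel.decExists; rewrite [Cfsg.Agent.LsF.f8776b6_20.2, Cfsg.Agent.LsF.dOr_eq, Cfsg.Agent.LsF.dIff_eq]; exact rfl) | exact rfl⟩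
theorem classes : ∀ m : M7, m ∈ Q → m * m = 1 → m ≠ 1 → m ≠ z →
    (∃ t : M7, t * ze * t⁻¹ = m) ∨ (∃ t : M7, t * x1 * t⁻¹ = m) ∨ (∃ t : M7, t * y1 * t⁻¹ = m) ∨
      (∃ t : M7, t * f * t⁻¹ = m) := by
  (refine of_decide_eq_true ?_; (try (delta Cfsg.Agent.LFourB.M7.instDecidablePredMemSubgroupQ Cfsg.Agent.LFourB.M7.instDecidablePredMemSubgroupQ._aux_1; rewrite [(show (HMul.hMul : Cfsg.Agent.LFourB.M7 → Cfsg.Agent.LFourB.M7 → Cfsg.Agent.LFourB.M7) = Cfsg.Agent.LFourB.M7.mul from rfl), (show (Inv.inv : Cfsg.Agent.LFourB.M7 → Cfsg.Agent.LFourB.M7) = Cfsg.Agent.LFourB.M7.inv from rfl), Cfsg.Agent.LsF.f8776b6_4.2, Cfsg.Agent.LsF.f8776b6_6.2, Cfsg.Agent.LsF.f8776b6_13.2, Cfsg.Agent.LsF.f8776b6_16.2, Cfsg.Agent.LsF.f8776b6_21.2, Cfsg.Agent.LsF.dOr_eq, Cfsg.Agent.LsF.dNot_eq, Cfsg.Agent.LsF.dImp_eq, Cfsg.Agent.LsF.dBoolEq_eq, Cfsg.Agent.LsF.dAllP_eq, Cfsg.Agent.LsF.decide_eq])); decide +kernel)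

/-! ### The homomorphisms from the quaternion group -/

/-- the first quaternion group -/
def fq1 : QuaternionGroup (2 ^ 1) → M7
  | .a j => a1 ^ (ZMod.val j)
  | .xa j => b1 * a1 ^ (ZMod.val j)

/-- the second quaternion group -/
def fq2 : QuaternionGroup (2 ^ 1) → M7
  | .a j => a2 ^ (ZMod.val j)
  | .xa j => b2 * a2 ^ (ZMod.val j)

instance : NeZero (2 * 2 ^ 1) := ⟨by decide⟩

def q1 : QuaternionGroup (2 ^ 1) →* M7 where
  toFun := fq1
  map_one' := by decide
  map_mul' := by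
    rintro (x | x) (y | y)
    · revert x y; decide +kernel
    · revert x y; decide +kernel
    · revert x y; decide +kernel
    · revert x y; decide +kernel

def q2 : QuaternionGroup (2 ^ 1) →* M7 where
  toFun := fq2
  map_one' := by decide
  map_mul' := by
    rintro (x | x) (y | y)
    · revert x y; decide +kernel
    · revert x y; decide +kernel
    · revert x y; decide +kernel
    · revert x y; decide +kernel

theorem q1_inj : Function.Injective q1 := by
  rw [injective_iff_map_eq_one]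
  rintro (x | x)
  · revert x; decide +kernel
  · revert x; decide +kernel
theorem q2_inj : Function.Injective q2 := by
  rw [injective_iff_map_eq_one]
  rintro (x | x)
  · revert x; decide +kernel
  · revert x; decide +kernel
theorem q1_z : q1 (.a ((2 ^ 1 : ℕ) : ZMod (2 * 2 ^ 1))) = z := by decide
theorem q2_z : q2 (.a ((2 ^ 1 : ℕ) : ZMod (2 * 2 ^ 1))) = z := by decide
theorem q1_mem : ∀ x, q1 x ∈ Q1 := by
  rintro (x | x)
  · revert x; decide +kernel
  · revert x; decide +kernel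
theorem q2_mem : ∀ x, q2 x ∈ Q2 := by
  rintro (x | x)
  · revert x; decide +kernel
  · revert x; decide +kernel
theorem Q1_cases : ∀ m : M7, m ∈ Q1 → ∃ (e : Bool) (j : ZMod (2 * 2 ^ 1)), m = b1 ^ (e.toNat) * a1 ^ (ZMod.val j) := by
  decide +kernel
theorem Q2_cases : ∀ m : M7, m ∈ Q2 → ∃ (e : Bool) (j : ZMod (2 * 2 ^ 1)), m = b2 ^ (e.toNat) * a2 ^ (ZMod.val j) := by
  decide +kernel
theorem exists_q1 {m : M7} (hm : m ∈ Q1) : ∃ x, q1 x = m := by
  obtain ⟨e, j, rfl⟩ := Q1_cases m hm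
  cases e
  · exact ⟨.a j, (one_mul _).symm⟩
  · exact ⟨.xa j, rfl⟩
theorem exists_q2 {m : M7} (hm : m ∈ Q2) : ∃ x, q2 x = m := by
  obtain ⟨e, j, rfl⟩ := Q2_cases m hm
  cases e
  · exact ⟨.a j, (one_mul _).symm⟩
  · exact ⟨.xa j, rfl⟩
theorem s_a1 : ∀ j, s * q1 (.a j) * s⁻¹ = q1 (.a j) := by decide +kernel
theorem s_a2 : ∀ j, s * q2 (.a j) * s⁻¹ = q2 (.a j) := by decide +kernel
theorem s_b1 : ∀ j, s * q1 (.xa j) * s⁻¹ = q1 (.xa (j - 1)) := by decide +kernel
theorem s_b2 : ∀ j, s * q2 (.xa j) * s⁻¹ = q2 (.xa (j - 1)) := by decide +kernel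
set_option maxRecDepth 10000 in
theorem Q1_Q2_comm : ∀ x : M7, x ∈ Q1 → ∀ y : M7, y ∈ Q2 → x * y = y * x := by decide +kernel
/-- the `Q1`-part of an element of `Q` -/
def p1 (m : M7) : M7 :=
  if m ∈ Q2 then 1 else if a1 * m ∈ Q2 then a1 else if b1 * m ∈ Q2 then b1 else a1 * b1
theorem Q_split : ∀ m : M7, m ∈ Q → p1 m ∈ Q1 ∧ (p1 m)⁻¹ * m ∈ Q2 := by decide +kernel
/-- the `B1`-part of an element of `Q1` -/
def pB (m : M7) : M7 := if m ∈ Q2 then 1 else if x1 * m ∈ Q2 then x1 else if ze * m ∈ Q2 then ze else x1 * ze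
theorem Q1_split : ∀ m : M7, m ∈ Q1 → pB m ∈ B1 ∧ (pB m)⁻¹ * m ∈ Q2 := by decide +kernel
/-- the `B1`-part of an element of `Q2` -/
def pC (m : M7) : M7 := if m ∈ Q1 then 1 else if x1 * m ∈ Q1 then x1 else if ze * m ∈ Q1 then ze else x1 * ze
theorem Q2_split : ∀ m : M7, m ∈ Q2 → pC m ∈ B1 ∧ (pC m)⁻¹ * m ∈ Q1 := by decide +kernel
theorem cent_B1 : ∀ m : M7, m * ze = ze * m → m * x1 = x1 * m → m ∈ V1 := by decide +kernel
theorem ze_mem_B1 : ze ∈ B1 := by decide
theorem x1_mem_B1 : x1 ∈ B1 := by decide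
set_option maxRecDepth 10000 in
theorem V1_comm : ∀ m : M7, m ∈ V1 → ∀ n : M7, n ∈ V1 → m * n = n * m := by decide +kernel
set_option maxRecDepth 10000 in
theorem Q_B1 : ∀ m : M7, m ∈ Q → ∀ n : M7, n ∈ B1 → m * n * m⁻¹ ∈ B1 := by (refine of_decide_eq_true ?_; (try (delta Cfsg.Agent.LFourB.M7.instDecidablePredMemSubgroupQ Cfsg.Agent.LFourB.M7.instDecidablePredMemSubgroupQ._aux_1 Cfsg.Agent.LFourB.StepSixModel.instDecidablePredM7MemSubgroupB1 Cfsg.Agent.LFourB.StepSixModel.instDecidablePredM7MemSubgroupB1._aux_1; rewrite [(show (HMul.hMul : Cfsg.Agent.LFourB.M7 → Cfsg.Agent.LFourB.M7 → Cfsg.Agent.LFourB.M7) = Cfsg.Agent.LFourB.M7.mul from rfl), (show (Inv.inv : Cfsg.Agent.LFourB.M7 → Cfsg.Agent.LFourB.M7) = Cfsg.Agent.LFourB.M7.inv from rfl), Cfsg.Agent.LsF.f8776b6_4.2, Cfsg.Agent.LsF.f8776b6_6.2, Cfsg.Agent.LsF.f8776b6_13.2, Cfsg.Agent.LsF.dBoolEq_eq, Cfsg.Agent.LsF.dAllP_eq, Cfsg.Agent.LsF.decide_eq])); decide +kernel)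
theorem cent_B1_Q : ∀ m : M7, m ∈ Q → m ∈ V1 → m ∈ B1 := by decide +kernel
theorem B1_sq : ∀ m : M7, m ∈ B1 → m * m = 1 := by decide +kernel
theorem cent_Q : ∀ m : M7, m * x1 = x1 * m → m * y1 = y1 * m → m * f = f * m → m * ze = ze * m → m = 1 ∨ m = z := by
  decide +kernel
theorem gen_mem_Q : x1 ∈ Q ∧ y1 ∈ Q ∧ f ∈ Q ∧ ze ∈ Q := by decide

theorem tU_cases : ∀ m : M7, tU m = true → m ∈ Q ∨ m * s⁻¹ ∈ Q := by decide +kernel
theorem tU_s : tU s = true := by decide

end Cfsg.Agent.LFourB.StepSixModel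
end

-- part: LFourB/StepSix
section
/-!
# Separated involutions `x2`, `y2` (S0510, type B5, step 6)

`X` is a finite group with a Sylow 2-subgroup `P ≅ M7`, in which `z` is central and the conjugates of `x2` (of `y2`) in
`P` are the conjugates in `P`. Then `Q` is the Sylow 2-subgroup of a normal subgroup of index 4, `Q` is weakly closed,
and the normaliser of `Q` controls fusion in `Q / ⟨z⟩`, in every subgroup containing `Q`.
-/

set_option autoImplicit false

namespace Cfsg.Agent.LFourB.StepSix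

open Subgroup Cfsg.Agent.LFourB M7 StepSixModel

variable {X : Type*} [Group X]

structure Sep (P : Subgroup X) (ψ : M7 →* X) : Prop where
  emb : Emb7 P ψ
  cen : ∀ g, g * ψ z = ψ z * g
  sx : ∀ g m, g * ψ x2 * g⁻¹ = ψ m → cx m = true
  sy : ∀ g m, g * ψ y2 * g⁻¹ = ψ m → cy m = true

namespace Sep

section

variable {P : Subgroup X} {ψ : M7 →* X} (h : Sep P ψ)

include h

theorem psi_inj {m n : M7} (e : ψ m = ψ n) : m = n := h.emb.inj e

theorem cx_conj {g : X} {m n : M7} (e : g * ψ m * g⁻¹ = ψ n) (hm : cx m = true) : cx n = true := by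
  have h1 := congrArg ψ (conj_kx m hm)
  rw [map_mul, map_mul, map_inv] at h1
  apply h.sx (g * ψ (kx m))
  rw [← e, ← h1]
  group

theorem cy_conj {g : X} {m n : M7} (e : g * ψ m * g⁻¹ = ψ n) (hm : cy m = true) : cy n = true := by
  have h1 := congrArg ψ (conj_ky m hm)
  rw [map_mul, map_mul, map_inv] at h1
  apply h.sy (g * ψ (ky m))
  rw [← e, ← h1]
  group

omit h in
theorem symm_conj {g x y : X} (e : g * x * g⁻¹ = y) : g⁻¹ * y * g⁻¹⁻¹ = x := by rw [← e]; group

theorem sq_conj {g : X} {m n : M7} (e : g * ψ m * g⁻¹ = ψ n) (hm : m * m = 1) : n * n = 1 := by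
  apply h.psi_inj
  rw [map_mul, ← e, map_one]
  have h1 : g * ψ m * g⁻¹ * (g * ψ m * g⁻¹) = g * (ψ (m * m)) * g⁻¹ := by rw [map_mul]; group
  rw [h1, hm, map_one]
  group

/-- involutions of `Q` stay in `Q` -/
theorem invol_Q {g : X} {m n : M7} (e : g * ψ m * g⁻¹ = ψ n) (hm2 : m * m = 1) (hm : m ∈ Q) : n ∈ Q := by
  rcases inv_cases n (h.sq_conj e hm2) with h1 | h1 | h1
  · exact h1
  · exact absurd hm (cx_not_Q m (h.cx_conj (symm_conj e) h1))
  · exact absurd hm (cy_not_Q m (h.cy_conj (symm_conj e) h1))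

theorem invol_R1 {g : X} {m n : M7} (e : g * ψ m * g⁻¹ = ψ n) (hm2 : m * m = 1) : n ∈ R1 ↔ m ∈ R1 := by
  rcases inv_cases m hm2 with h1 | h1 | h1
  · exact iff_of_true ((Q_iff n).1 (h.invol_Q e hm2 h1)).1 ((Q_iff m).1 h1).1
  · exact iff_of_false (cx_not_R1 n (h.cx_conj e h1)) (cx_not_R1 m h1)
  · exact iff_of_true (cy_R1 n (h.cy_conj e h1)) (cy_R1 m h1)

theorem invol_R2 {g : X} {m n : M7} (e : g * ψ m * g⁻¹ = ψ n) (hm2 : m * m = 1) : n ∈ R2 ↔ m ∈ R2 := by
  rcases inv_cases m hm2 with h1 | h1 | h1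
  · exact iff_of_true ((Q_iff n).1 (h.invol_Q e hm2 h1)).2 ((Q_iff m).1 h1).2
  · exact iff_of_true (cx_R2 n (h.cx_conj e h1)) (cx_R2 m h1)
  · exact iff_of_false (cy_not_R2 n (h.cy_conj e h1)) (cy_not_R2 m h1)

end

section transfer

variable [Finite X] {P : Sylow 2 X} {ψ : M7 →* X} (h : Sep (P : Subgroup X) ψ)

include h

omit [Finite X] in
theorem relIndex_map {R : Subgroup M7} (hR : R.index = 2) : (R.map ψ).relIndex (P : Subgroup X) = 2 := by
  rw [← h.emb.range, MonoidHom.range_eq_map, Subgroup.relIndex_map_map_of_injective _ _ h.emb.inj,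
    Subgroup.relIndex_top_right, hR]

theorem exists_transfer {R : Subgroup M7} (hR : R.index = 2)
    (hf : ∀ (g : X) (m n : M7), g * ψ m * g⁻¹ = ψ n → m * m = 1 → (n ∈ R ↔ m ∈ R)) :
    ∃ V : X →* ℤˣ, ∀ m : M7, m * m = 1 → (V (ψ m) = 1 ↔ m ∈ R) := by
  obtain ⟨V, hV⟩ := Cfsg.Agent.SylowSp4.Extremal.exists_transfer P (R.map ψ) (h.relIndex_map hR)
  refine ⟨V, fun m hm => ?_⟩
  rw [hV (ψ m) (h.emb.mem m), h.emb.mem_map]
  intro k g hg
  obtain ⟨n, hn⟩ := h.emb.exists_eq hg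
  rw [← map_pow] at hn ⊢
  rw [← hn, h.emb.mem_map, h.emb.mem_map]
  refine hf g _ _ hn.symm ?_
  rw [← pow_add, ← two_mul, pow_mul, pow_two, hm, one_pow]

theorem exists_V1 : ∃ V : X →* ℤˣ, ∀ m : M7, V (ψ m) = 1 ↔ m ∈ R1 := by
  obtain ⟨V, hV⟩ := h.exists_transfer index_R1 (fun g m n e hm => h.invol_R1 e hm)
  refine ⟨V, fun m => ?_⟩
  have h1 := congrArg ψ (decomp m)
  rw [h1, map_mul, map_mul, map_mul, map_mul, map_mul, map_mul,
    (hV _ (sq_c m.c)).2 ((Q_iff _).1 (c_mem m.c)).1, (hV _ (sq_b m.b)).2 (b_mem m.b),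
    (hV _ (sq_e m.e)).2 ((Q_iff _).1 (e_mem m.e)).1, one_mul, one_mul, mul_one, hV _ (sq_a m.a), a_iff]

theorem exists_V2 : ∃ V : X →* ℤˣ, ∀ m : M7, V (ψ m) = 1 ↔ m ∈ R2 := by
  obtain ⟨V, hV⟩ := h.exists_transfer index_R2 (fun g m n e hm => h.invol_R2 e hm)
  refine ⟨V, fun m => ?_⟩
  have h1 := congrArg ψ (decomp m)
  rw [h1, map_mul, map_mul, map_mul, map_mul, map_mul, map_mul,
    (hV _ (sq_c m.c)).2 ((Q_iff _).1 (c_mem m.c)).2, (hV _ (sq_a m.a)).2 (a_mem m.a),
    (hV _ (sq_e m.e)).2 ((Q_iff _).1 (e_mem m.e)).2, one_mul, mul_one, mul_one, hV _ (sq_b m.b), b_iff]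

omit [Finite X] in
theorem Q_conj {q m : M7} (hq : q ∈ Q) (hm : m ∈ Q) :
    ψ q * ψ m * (ψ q)⁻¹ = ψ m ∨ ψ q * ψ m * (ψ q)⁻¹ = ψ m * ψ z := by
  rcases Q_comm q hq m hm with h1 | h1
  · left
    rw [← map_mul, h1, map_mul, mul_inv_cancel_right]
  · right
    rw [← map_mul, h1, map_mul, map_mul, mul_assoc (ψ m), h.cen, ← mul_assoc, mul_inv_cancel_right]

/-- elements of `Q` stay in `Q` -/
theorem mem_Q {g : X} {m n : M7} (e : g * ψ m * g⁻¹ = ψ n) : n ∈ Q ↔ m ∈ Q := by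
  obtain ⟨V, hV⟩ := h.exists_V1
  obtain ⟨W, hW⟩ := h.exists_V2
  have key : ∀ U : X →* ℤˣ, U (ψ n) = U (ψ m) := by
    intro U
    rw [← e, map_mul, map_mul, map_inv, mul_comm (U g), mul_inv_cancel_right]
  rw [Q_iff, Q_iff, ← hV, ← hW, ← hV, ← hW, key, key]

/-- `Q` is weakly closed -/
theorem weak {g : X} (hg : ∀ q ∈ Q, g * ψ q * g⁻¹ ∈ (P : Subgroup X)) (q : M7) (hq : q ∈ Q) :
    ∃ q' ∈ Q, g * ψ q * g⁻¹ = ψ q' := by
  obtain ⟨q', hq'⟩ := h.emb.exists_eq (hg q hq)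
  exact ⟨q', (h.mem_Q hq'.symm).2 hq, hq'.symm⟩

theorem map_Q_eq {g : X} (hg : (Q.map ψ).map (MulAut.conj g).toMonoidHom ≤ P) :
    (Q.map ψ).map (MulAut.conj g).toMonoidHom = Q.map ψ := by
  apply Subgroup.eq_of_le_of_card_ge
  · rintro _ ⟨_, ⟨q, hq, rfl⟩, rfl⟩
    obtain ⟨q', hq', e⟩ := h.weak (g := g) (fun q hq => hg ⟨_, ⟨q, hq, rfl⟩, rfl⟩) q hq
    exact ⟨q', hq', e.symm⟩
  · have hinj : Function.Injective (MulAut.conj g).toMonoidHom := (MulAut.conj g).injective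
    rw [Subgroup.card_map_of_injective hinj]

omit h [Finite X] in
theorem mem_of_map_eq {g : X} (hg : (Q.map ψ).map (MulAut.conj g).toMonoidHom = Q.map ψ) :
    g ∈ normalizer (Q.map ψ : Set X) := by
  rw [Subgroup.mem_normalizer_iff]
  intro x
  constructor
  · intro hx
    rw [← hg]
    exact ⟨x, hx, rfl⟩
  · intro hx
    rw [← hg] at hx
    obtain ⟨y, hy, e⟩ := hx
    have h1 : y = x := (MulAut.conj g).injective e
    rwa [← h1]

/-- control of fusion in `Q / ⟨z⟩` -/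
theorem control {M : Subgroup X} (hM : Q.map ψ ≤ M) {g : X} (hg : g ∈ M) {m n : M7} (hm : m ∈ Q)
    (e : g * ψ m * g⁻¹ = ψ n) :
    ∃ k ∈ M, k ∈ normalizer (Q.map ψ : Set X) ∧ (k * ψ m * k⁻¹ = ψ n ∨ k * ψ m * k⁻¹ = ψ (n * z)) := by
  have hn : n ∈ Q := (h.mem_Q e).2 hm
  have hzz : ψ z * ψ z = 1 := by rw [← map_mul, z_sq, map_one]
  have hz1 : ∀ g, g * ψ z * g⁻¹ = ψ z := fun g => by rw [h.cen, mul_inv_cancel_right]
  -- the centraliser modulo `z`
  let D : Subgroup X :=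
    { carrier := {y | y ∈ M ∧ (y * ψ n * y⁻¹ = ψ n ∨ y * ψ n * y⁻¹ = ψ n * ψ z)}
      one_mem' := ⟨M.one_mem, Or.inl (by group)⟩
      mul_mem' := by
        rintro a b ⟨ha, ha'⟩ ⟨hb, hb'⟩
        refine ⟨M.mul_mem ha hb, ?_⟩
        have h1 : a * b * ψ n * (a * b)⁻¹ = a * (b * ψ n * b⁻¹) * a⁻¹ := by group
        rw [h1]
        rcases hb' with hb' | hb' <;> rw [hb']
        · exact ha'
        · have h2 : a * (ψ n * ψ z) * a⁻¹ = (a * ψ n * a⁻¹) * (a * ψ z * a⁻¹) := by group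
          rw [h2, hz1]
          rcases ha' with ha' | ha' <;> rw [ha']
          · right; rfl
          · left; rw [mul_assoc, hzz, mul_one]
      inv_mem' := by
        rintro a ⟨ha, ha'⟩
        refine ⟨M.inv_mem ha, ?_⟩
        rcases ha' with ha' | ha'
        · left
          exact symm_conj ha'
        · right
          have h1 : ψ n = a⁻¹ * (ψ n * ψ z) * a⁻¹⁻¹ := (symm_conj ha').symm
          have h2 : a⁻¹ * (ψ n * ψ z) * a⁻¹⁻¹ = (a⁻¹ * ψ n * a⁻¹⁻¹) * (a⁻¹ * ψ z * a⁻¹⁻¹) := by group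
          rw [h2, hz1] at h1
          calc a⁻¹ * ψ n * a⁻¹⁻¹ = a⁻¹ * ψ n * a⁻¹⁻¹ * (ψ z * ψ z) := by rw [hzz, mul_one]
            _ = a⁻¹ * ψ n * a⁻¹⁻¹ * ψ z * ψ z := by rw [mul_assoc (a⁻¹ * ψ n * a⁻¹⁻¹)]
            _ = ψ n * ψ z := by rw [← h1] }
  have hQD : Q.map ψ ≤ D := by
    rintro _ ⟨q, hq, rfl⟩
    exact ⟨hM ⟨q, hq, rfl⟩, h.Q_conj hq hn⟩
  have hQD' : (Q.map ψ).map (MulAut.conj g).toMonoidHom ≤ D := by
    rintro _ ⟨_, ⟨q, hq, rfl⟩, rfl⟩
    change g * ψ q * g⁻¹ ∈ D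
    refine ⟨M.mul_mem (M.mul_mem hg (hM ⟨q, hq, rfl⟩)) (M.inv_mem hg), ?_⟩
    have h2 : g * ψ q * g⁻¹ * ψ n * (g * ψ q * g⁻¹)⁻¹ = g * (ψ q * ψ m * (ψ q)⁻¹) * g⁻¹ := by
      rw [← e]; group
    rw [h2]
    rcases h.Q_conj hq hm with h1 | h1 <;> rw [h1]
    · left
      exact e
    · right
      have h3 : g * (ψ m * ψ z) * g⁻¹ = g * ψ m * g⁻¹ * (g * ψ z * g⁻¹) := by group
      rw [h3, hz1, e]
  have hp : IsPGroup 2 (Q.map ψ : Subgroup X) := P.isPGroup'.to_le (h.emb.map_le Q)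
  obtain ⟨R, hQR, hRD, hR, hRi⟩ := Cfsg.Agent.Lib.GoldschmidtFusion.exists_sylow_in (p := 2) hQD hp
  obtain ⟨d, hd, hdR⟩ := Cfsg.Agent.Lib.GoldschmidtFusion.exists_conj_le_in hR hRi hQD' (hp.map _)
  obtain ⟨T, hT⟩ := hR.exists_le_sylow
  obtain ⟨x, hx⟩ := MulAction.exists_smul_eq X T P
  have hxR : ∀ y ∈ R, x * y * x⁻¹ ∈ (P : Subgroup X) := by
    intro y hy
    rw [← hx, Sylow.coe_subgroup_smul]
    have := Subgroup.smul_mem_pointwise_smul _ (MulAut.conj x) _ (hT hy)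
    simpa only [_root_.MulAut.smul_def, _root_.MulAut.conj_apply] using this
  have h1 : (Q.map ψ).map (MulAut.conj x).toMonoidHom = Q.map ψ := by
    apply h.map_Q_eq
    rintro _ ⟨y, hy, rfl⟩
    exact hxR y (hQR hy)
  have h2 : (Q.map ψ).map (MulAut.conj (x * (d * g))).toMonoidHom = Q.map ψ := by
    apply h.map_Q_eq
    rintro _ ⟨y, hy, rfl⟩
    have h3 := hxR (d * (g * y * g⁻¹) * d⁻¹) (hdR ⟨_, ⟨y, hy, rfl⟩, rfl⟩)
    have h4 : x * (d * (g * y * g⁻¹) * d⁻¹) * x⁻¹ = x * (d * g) * y * (x * (d * g))⁻¹ := by group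
    rwa [h4] at h3
  have h3 := mem_of_map_eq h1
  have h4 := mem_of_map_eq h2
  have h5 : d * g ∈ normalizer (Q.map ψ : Set X) := by
    have h6 := mul_mem (inv_mem h3) h4
    rwa [inv_mul_cancel_left] at h6
  refine ⟨d * g, M.mul_mem hd.1 hg, h5, ?_⟩
  have h6 : d * g * ψ m * (d * g)⁻¹ = d * (g * ψ m * g⁻¹) * d⁻¹ := by group
  rw [h6, e, map_mul]
  exact hd.2

end transfer

end Sep

end Cfsg.Agent.LFourB.StepSix
end

-- part: LFourB/StepSixFus
section
/-!
# The two quaternion groups are strongly closed (S0510, type B5, step 6)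
-/

set_option autoImplicit false

namespace Cfsg.Agent.LFourB.StepSixFus

open Subgroup Cfsg.Agent.LFourB M7 StepSixModel StepSix

/-- a homomorphism onto signs which is trivial on a Sylow 2-subgroup is trivial -/
theorem hom_trivial {Y : Type*} [Group Y] [Finite Y] (P : Sylow 2 Y) (W : Y →* ℤˣ)
    (h : ∀ p ∈ (P : Subgroup Y), W p = 1) (y : Y) : W y = 1 := by
  have h1 : (P : Subgroup Y) ≤ W.ker := fun p hp => MonoidHom.mem_ker.2 (h p hp)
  have h2 : W.ker.index ∣ (P : Subgroup Y).index := Subgroup.index_dvd_of_le h1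
  have h3 : ¬ 2 ∣ W.ker.index := fun h4 => P.not_dvd_index (h4.trans h2)
  have h4 : W.ker.index ∣ 2 := by
    rw [Subgroup.index_ker]
    have h5 : Nat.card W.range ∣ Nat.card ℤˣ := Subgroup.card_subgroup_dvd_card _
    have h6 : Nat.card ℤˣ = 2 := by rw [Nat.card_eq_fintype_card]; rfl
    rwa [h6] at h5
  have h5 : W.ker.index = 1 := by
    rcases (Nat.dvd_prime Nat.prime_two).1 h4 with h5 | h5
    · exact h5
    · exact absurd (by rw [h5]) h3
  rw [Subgroup.index_eq_one] at h5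
  have h6 : y ∈ W.ker := by rw [h5]; exact Subgroup.mem_top y
  exact h6

theorem units_mul {a b : ℤˣ} : a * b = 1 ↔ (a = 1 ↔ b = 1) := by
  rcases Int.units_eq_one_or a with rfl | rfl <;> rcases Int.units_eq_one_or b with rfl | rfl <;> decide

theorem units_eq {a b : ℤˣ} (h : a = 1 ↔ b = 1) : a = b := by
  rcases Int.units_eq_one_or a with rfl | rfl <;> rcases Int.units_eq_one_or b with rfl | rfl
  · rfl
  · exact absurd (h.1 rfl) (by decide)
  · exact absurd (h.2 rfl) (by decide)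
  · rfl

open Classical in
/-- the sign of a proposition -/
noncomputable def sgn (p : Prop) : ℤˣ := if p then 1 else -1

theorem sgn_iff {p : Prop} : sgn p = 1 ↔ p := by
  unfold sgn
  by_cases hp : p
  · simp [hp]
  · rw [if_neg hp]
    simp only [hp, iff_false]
    decide

theorem sgn_mul {p q r : Prop} (h : p ↔ (q ↔ r)) : sgn p = sgn q * sgn r := by
  apply units_eq
  rw [units_mul, sgn_iff, sgn_iff, sgn_iff, h]

variable {X : Type*} [Group X] [Finite X] {P : Sylow 2 X} {ψ : M7 →* X} (h : _root_.Cfsg.Agent.LFourB.StepSix.Sep (P : Subgroup X) ψ)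

/-- `U` is the character with kernel the normaliser of `Q1` in `P` -/
structure IsU (ψ : M7 →* X) (U : X →* ℤˣ) : Prop where
  iff : ∀ m : M7, U (ψ m) = 1 ↔ tU m = true

include h

theorem exists_U : ∃ U : X →* ℤˣ, IsU ψ U := by
  obtain ⟨V, hV⟩ := h.exists_V1
  obtain ⟨W, hW⟩ := h.exists_V2
  refine ⟨V * W, ⟨fun m => ?_⟩⟩
  rw [MonoidHom.mul_apply, units_mul, hV, hW, tU_iff]

omit [Finite X] in
theorem conj_mul_iff {n : X} {a b a' b' c d c' d' : M7} (ea : n * ψ a * n⁻¹ = ψ a') (eb : n * ψ b * n⁻¹ = ψ b')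
    (ec : n * ψ c * n⁻¹ = ψ c') (ed : n * ψ d * n⁻¹ = ψ d') : a * b = c * d ↔ a' * b' = c' * d' := by
  have h1 : ∀ {x y x' y' : M7}, n * ψ x * n⁻¹ = ψ x' → n * ψ y * n⁻¹ = ψ y' → ψ (x' * y') = n * ψ (x * y) * n⁻¹ := by
    intro x y x' y' hx hy
    rw [map_mul, ← hx, ← hy, map_mul]
    group
  constructor
  · intro e
    apply h.psi_inj
    rw [h1 ea eb, h1 ec ed, e]
  · intro e
    apply h.psi_inj
    have h2 : n * ψ (a * b) * n⁻¹ = n * ψ (c * d) * n⁻¹ := by rw [← h1 ea eb, ← h1 ec ed, e]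
    exact mul_left_cancel (mul_right_cancel h2)

omit [Finite X] in
theorem conj_z (n : X) : n * ψ z * n⁻¹ = ψ z := by rw [h.cen, mul_inv_cancel_right]

omit [Finite X] in
theorem sq_z {n : X} {a a' : M7} (ea : n * ψ a * n⁻¹ = ψ a') (ha : a * a = z) : a' * a' = z := by
  have h1 := (conj_mul_iff h ea ea (conj_z h n) (by rw [map_one]; group : n * ψ 1 * n⁻¹ = ψ 1)).1 (by rw [ha, mul_one])
  rwa [mul_one] at h1

theorem side_conj {n : X} {a b a' b' : M7} (ha : a ∈ Q) (ha2 : a * a = z) (hb : b ∈ Q) (hb2 : b * b = z)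
    (ea : n * ψ a * n⁻¹ = ψ a') (eb : n * ψ b * n⁻¹ = ψ b') :
    (a ∈ Q1 ↔ b ∈ Q1) ↔ (a' ∈ Q1 ↔ b' ∈ Q1) := by
  have h1 : n * ψ 1 * n⁻¹ = ψ 1 := by rw [map_one]; group
  rw [side a ha ha2 b hb hb2, side a' ((h.mem_Q ea).2 ha) (sq_z h ea ha2) b' ((h.mem_Q eb).2 hb) (sq_z h eb hb2)]
  have h2 := conj_mul_iff h ea eb eb ea
  have h3 := conj_mul_iff h eb h1 ea h1
  have h4 := conj_mul_iff h eb h1 ea (conj_z h n)
  rw [mul_one, mul_one, mul_one, mul_one] at h3
  rw [mul_one, mul_one] at h4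
  rw [Ne, Ne, h2, h3, h4]

/-- the normaliser of `Q` and its character -/
theorem exists_W : ∃ W : normalizer (Q.map ψ : Set X) →* ℤˣ, ∀ n, (W n = 1 ↔ ∃ b ∈ Q1, (n : X) * ψ a1 * (n : X)⁻¹ = ψ b) := by
  have him : ∀ (n : normalizer (Q.map ψ : Set X)) (a : M7), a ∈ Q → ∃ b ∈ Q, (n : X) * ψ a * (n : X)⁻¹ = ψ b := by
    intro n a ha
    obtain ⟨b, hb, e⟩ := (Subgroup.mem_normalizer_iff.1 n.2 (ψ a)).1 ⟨a, ha, rfl⟩
    exact ⟨b, hb, e.symm⟩
  refine ⟨{ toFun := fun n => sgn (∃ b ∈ Q1, (n : X) * ψ a1 * (n : X)⁻¹ = ψ b)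
            map_one' := sgn_iff.2 ⟨a1, a1_mem, by simp⟩
            map_mul' := ?_ }, ?_⟩
  · intro n n'
    obtain ⟨c, hc, ec⟩ := him n' a1 (Q1_le _ a1_mem)
    obtain ⟨d, hd, ed⟩ := him n c hc
    obtain ⟨b, hb, eb⟩ := him n a1 (Q1_le _ a1_mem)
    have e1 : ((n * n' : normalizer (Q.map ψ : Set X)) : X) * ψ a1 * ((n * n' : normalizer (Q.map ψ : Set X)) : X)⁻¹ = ψ d := by
      rw [← ed, ← ec, Subgroup.coe_mul]
      group
    have key : ∀ {x : X} {c : M7}, x * ψ a1 * x⁻¹ = ψ c → ((∃ b ∈ Q1, x * ψ a1 * x⁻¹ = ψ b) ↔ c ∈ Q1) := by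
      intro x c hx
      constructor
      · rintro ⟨b, hb, e⟩
        rw [hx] at e
        rwa [h.psi_inj e]
      · intro hc
        exact ⟨c, hc, hx⟩
    apply sgn_mul
    rw [key e1, key ec, key eb]
    have h1 := side_conj h (Q1_le _ a1_mem) a1_sq hc (sq_z h ec a1_sq) eb ed
    simp only [a1_mem, true_iff] at h1
    (clear * - h1; tauto)
  · intro n
    exact sgn_iff

theorem P_le_normalizer : (P : Subgroup X) ≤ normalizer (Q.map ψ : Set X) := by
  intro g hg
  apply Sep.mem_of_map_eq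
  apply h.map_Q_eq
  rintro _ ⟨_, ⟨q, hq, rfl⟩, rfl⟩
  exact mul_mem (mul_mem hg (h.emb.mem q)) (inv_mem hg)

/-- elements of the kernel normalising `Q` preserve the two quaternion groups -/
theorem keep {U : X →* ℤˣ} (hU : IsU ψ U) {n : X} (hn : n ∈ normalizer (Q.map ψ : Set X)) (hUn : U n = 1)
    {a a' : M7} (ha : a ∈ Q) (ha2 : a * a = z) (ea : n * ψ a * n⁻¹ = ψ a') : a' ∈ Q1 ↔ a ∈ Q1 := by
  obtain ⟨W, hW⟩ := exists_W h
  let N : Subgroup X := normalizer (Q.map ψ : Set X)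
  have hPN : (P : Subgroup X) ≤ N := P_le_normalizer h
  have h1 := hom_trivial (P.subtype hPN) (W * U.comp N.subtype) (by
    intro p hp
    obtain ⟨m, hm⟩ := h.emb.exists_eq (show (p : X) ∈ (P : Subgroup X) from hp)
    rw [MonoidHom.mul_apply, units_mul, hW, MonoidHom.comp_apply]
    change _ ↔ U (p : X) = 1
    rw [← hm, hU.iff]
    constructor
    · rintro ⟨b, hb, e⟩
      by_contra hcon
      rw [Bool.not_eq_true] at hcon
      have h2 := swap1 a1 a1_mem m hcon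
      rw [← map_inv, ← map_mul, ← map_mul] at e
      rw [h.psi_inj e] at h2
      have h3 : b * b = z := by
        rw [← h.psi_inj e]
        have h4 : m * a1 * m⁻¹ * (m * a1 * m⁻¹) = m * (a1 * a1) * m⁻¹ := by group
        rw [h4, a1_sq, z_comm, mul_inv_cancel_right]
      exact (four_cases b (Q1_le b hb) h3).1 hb h2
    · intro hm'
      exact ⟨m * a1 * m⁻¹, keep1 a1 a1_mem m hm', by rw [map_mul, map_mul, map_inv]⟩) ⟨n, hn⟩
  rw [MonoidHom.mul_apply, units_mul, hW, MonoidHom.comp_apply] at h1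
  obtain ⟨b, hb, eb⟩ := h1.2 hUn
  have h2 := side_conj h ha ha2 (Q1_le _ a1_mem) a1_sq ea eb
  simp only [a1_mem, hb, iff_true] at h2
  exact h2.symm

/-- strong closure of `Q1` and `Q2` modulo `z` -/
theorem closed {U : X →* ℤˣ} (hU : IsU ψ U) {g : X} (hg : U g = 1) {a n : M7} (ha : a ∈ Q)
    (e : g * ψ a * g⁻¹ = ψ n) : (a ∈ Q1 → n ∈ Q1) ∧ (a ∈ Q2 → n ∈ Q2) := by
  have hn : n ∈ Q := (h.mem_Q e).2 ha
  by_cases h1 : a = 1
  · subst h1
    rw [map_one, mul_one, mul_inv_cancel, ← map_one ψ] at e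
    rw [← h.psi_inj e]
    exact ⟨id, id⟩
  by_cases h2 : a = z
  · subst h2
    rw [conj_z h] at e
    rw [← h.psi_inj e]
    exact ⟨id, id⟩
  have hQM : Q.map ψ ≤ U.ker := by
    rintro _ ⟨q, hq, rfl⟩
    exact (hU.iff q).2 (tU_Q q hq)
  have hzz : z * z = 1 := z_sq
  have hnz1 : n * z ∈ Q1 → n ∈ Q1 := fun hh => by
    have h3 := Q1.mul_mem hh z_mem_Q1
    rwa [mul_assoc, hzz, mul_one] at h3
  have hnz2 : n * z ∈ Q2 → n ∈ Q2 := fun hh => by
    have h3 := Q2.mul_mem hh z_mem_Q2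
    rwa [mul_assoc, hzz, mul_one] at h3
  rcases Q_sq a ha with ha2 | ha2
  · exact ⟨fun hh => by rcases Q1_four a hh with h3 | h3 | h3
                        · exact absurd h3 h1
                        · exact absurd h3 h2
                        · rw [ha2] at h3; exact absurd h3.symm z_ne,
      fun hh => by rcases Q2_four a hh with h3 | h3 | h3
                   · exact absurd h3 h1
                   · exact absurd h3 h2
                   · rw [ha2] at h3; exact absurd h3.symm z_ne⟩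
  obtain ⟨k, hk, hkN, hk'⟩ := h.control hQM (show g ∈ U.ker from hg) ha e
  rcases hk' with e' | e'
  · have h3 := keep h hU hkN hk ha ha2 e'
    refine ⟨h3.2, fun hh => ?_⟩
    by_contra hcon
    have h4 := (four_cases n hn (sq_z h e ha2)).2 hcon
    exact (four_cases a ha ha2).1 (h3.1 h4) hh
  · have h3 := keep h hU hkN hk ha ha2 e'
    refine ⟨fun hh => hnz1 (h3.2 hh), fun hh => hnz2 ?_⟩
    by_contra hcon
    have h4 := (four_cases (n * z) (Q.mul_mem hn z_mem_Q) (sq_z h e' ha2)).2 hcon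
    exact (four_cases a ha ha2).1 (h3.1 h4) hh

omit h [Finite X] in
/-- fusion of the involutions of `Q`, in the kernel of `U` -/
theorem invol {U : X →* ℤˣ} (hU : IsU ψ U) (hze : ∃ g : X, g * ψ x1 * g⁻¹ = ψ ze)
    (hy : ∃ g : X, g * ψ x1 * g⁻¹ = ψ y1) (hf : ∃ g : X, g * ψ x1 * g⁻¹ = ψ f)
    {m : M7} (hm : m ∈ Q) (hm2 : m * m = 1) (hm1 : m ≠ 1) (hmz : m ≠ z) :
    ∃ g : X, U g = 1 ∧ g * ψ x1 * g⁻¹ = ψ m := by
  have key : ∃ g : X, g * ψ x1 * g⁻¹ = ψ m := by
    have h1 : ∀ c : M7, (∃ g : X, g * ψ x1 * g⁻¹ = ψ c) → (∃ t : M7, t * c * t⁻¹ = m) → ∃ g : X, g * ψ x1 * g⁻¹ = ψ m := by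
      rintro c ⟨g, hg⟩ ⟨t, rfl⟩
      refine ⟨ψ t * g, ?_⟩
      rw [map_mul, map_mul, map_inv, ← hg]
      group
    rcases classes m hm hm2 hm1 hmz with h2 | h2 | h2 | h2
    · exact h1 _ hze h2
    · exact h1 _ ⟨1, by group⟩ h2
    · exact h1 _ hy h2
    · exact h1 _ hf h2
  obtain ⟨g, hg⟩ := key
  by_cases hUg : U g = 1
  · exact ⟨g, hUg, hg⟩
  · refine ⟨g * ψ x2, ?_, ?_⟩
    · rw [map_mul, units_mul]
      refine iff_of_false hUg ?_
      rw [hU.iff, tU_x2]
      decide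
    · have h2 : g * ψ x2 * ψ x1 * (g * ψ x2)⁻¹ = g * (ψ (x2 * x1) * (ψ x2)⁻¹) * g⁻¹ := by rw [map_mul]; group
      rw [h2, x1_x2, map_mul, mul_inv_cancel_right, hg]

end Cfsg.Agent.LFourB.StepSixFus
end

private theorem dce_4d90e56eb9f5 : _root_.True := by
  try have : _root_.True := by simp only [_root_.Cfsg.Agent.ClassificationK.GTwoFactor.NK.eq_1]
  try have : _root_.True := by simp only [_root_.Cfsg.Agent.ClassificationK.GTwoModel.T.w.eq_1]
  try have : _root_.True := by simp only [_root_.Cfsg.Agent.ClassificationK.GTwoModel.T.s.eq_1]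
  try have : _root_.True := by simp only [_root_.Cfsg.Agent.LFourA.CzEmb.emb.congr_simp]
  try have : _root_.True := by simp only [_root_.Cfsg.Agent.ClassificationK.GTwoModel.T.u.eq_1]
  try have : _root_.True := by simp only [_root_.Cfsg.Agent.ClassificationK.GTwoModel.T.t.eq_1]
  try have : _root_.True := by simp only [_root_.Cfsg.Agent.ClassificationK.GTwoFactor.LK.eq_1]
  exact _root_.True.intro
end

-- part: CoverCore/Abs
section
prune_inst 0x4e4604400510002000000000230002024100000000063000179600502010f13218d02270048000f1019022a202002002002100059400000000000020040010120802a70c69308a00427008f80f807180c00000000000000000000000000041000000000000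
set_option linter.all false
open scoped Cfsg.Agent.FastGrp

/-!
# Involution centralisers which are a fixed group modulo a normal subgroup of odd order

`Good X ζ`: the properties of the double covers of the alternating groups of degree 8 and 9 which are used.
`Has ζ z p`: the function `p` restricts to a homomorphism of the centraliser of the involution `z` onto `X`, whose
kernel has odd order, with `p z = ζ`.
-/

set_option autoImplicit false

namespace Cfsg.Agent.CoverCore.Abs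

open Subgroup Cfsg Cfsg.Agent.StandardComponent.CentCore

/-- the properties of the group `X` and its central involution `ζ` -/
structure Good (X : Type*) [Group X] (ζ : X) : Prop where
  z_ne : ζ ≠ 1
  zz : ζ * ζ = 1
  comm : ∀ x, x * ζ = ζ * x
  one_class : ∀ u v : X, u * u = 1 → v * v = 1 → u ≠ 1 → u ≠ ζ → v ≠ 1 → v ≠ ζ →
    ∃ w, w * u * w⁻¹ = v
  fix : ∀ a b y : X, a * a = 1 → b * b = 1 → a * b = b * a → a ≠ 1 → a ≠ ζ → b ≠ 1 → b ≠ ζ →
    a ≠ b → a ≠ b * ζ → y * a = a * y → y * b = b * y → Odd (orderOf y) → y = 1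
  four : ∃ V : Subgroup X, (∀ a ∈ V, ∀ b ∈ V, a * b = b * a) ∧ (∀ a ∈ V, a * a = 1) ∧
    Nat.card V = 16 ∧ ζ ∈ V

/-- elementary abelian of order 16 -/
structure ESixteen {G : Type*} [Group G] (V : Subgroup G) : Prop where
  comm : ∀ a ∈ V, ∀ b ∈ V, a * b = b * a
  sq : ∀ a ∈ V, a * a = 1
  card : Nat.card V = 16

section general

variable {G : Type*} [Group G]

theorem inv_of_sq {x : G} (h : x * x = 1) : x⁻¹ = x := inv_eq_of_mul_eq_one_left h

theorem exists_notMem {V : Subgroup G} (hV : Nat.card V = 16) (l : List G) (hl : l.length < 16) :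
    ∃ x ∈ V, x ∉ l := by
  classical
  by_contra hcon
  push Not at hcon
  have hfin : Finite V := Nat.finite_of_card_ne_zero (by omega)
  have h1 : (V : Set G) ⊆ (l.toFinset : Set G) := fun x hx => by
    rw [Finset.mem_coe, List.mem_toFinset]; exact hcon x hx
  have h2 := Set.ncard_le_ncard h1 (Finset.finite_toSet _)
  rw [Set.ncard_coe_finset] at h2
  have h3 : (V : Set G).ncard = 16 := by rw [← Nat.card_coe_set_eq]; exact hV
  have h4 := List.toFinset_card_le l
  omega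

/-- Generation of a group of odd order by the centralisers of the involutions of a four-group. -/
theorem le_of_four [Finite G] {K L : Subgroup G} {a b : G} (aa : a * a = 1) (bb : b * b = 1)
    (ab : a * b = b * a) (ha : a ≠ 1) (hb : b ≠ 1) (hab : a ≠ b) (hK : Odd (Nat.card K))
    (hKa : ∀ x ∈ K, a * x * a⁻¹ ∈ K) (hKb : ∀ x ∈ K, b * x * b⁻¹ ∈ K)
    (h1 : ∀ x ∈ K, x * a = a * x → x ∈ L) (h2 : ∀ x ∈ K, x * b = b * x → x ∈ L)
    (h3 : ∀ x ∈ K, x * (a * b) = a * b * x → x ∈ L) : K ≤ L := by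
  classical
  have hba : b * a = a * b := ab.symm
  have ai : a⁻¹ = a := inv_of_sq aa
  have bi : b⁻¹ = b := inv_of_sq bb
  have e1 : a * (a * b) = b := by rw [← mul_assoc, aa, one_mul]
  have e2 : b * (a * b) = a := by rw [ab, ← mul_assoc, bb, one_mul]
  have e3 : a * b * a = b := by rw [mul_assoc, hba, e1]
  have e4 : a * b * b = a := by rw [mul_assoc, bb, mul_one]
  have e5 : a * b * (a * b) = 1 := by rw [mul_assoc, e2, aa]
  let A : Subgroup G :=
    { carrier := {x | x = 1 ∨ x = a ∨ x = b ∨ x = a * b}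
      one_mem' := Or.inl rfl
      mul_mem' := by
        rintro x y (rfl | rfl | rfl | rfl) (rfl | rfl | rfl | rfl) <;>
          simp only [Set.mem_ofPred_eq, one_mul, mul_one, aa, bb, hba, e1, e2, e3, e4, e5, true_or,
            or_true]
      inv_mem' := by
        rintro x (rfl | rfl | rfl | rfl)
        · left; exact inv_one
        · right; left; exact ai
        · right; right; left; exact bi
        · right; right; right
          rw [mul_inv_rev, ai, bi, hba] }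
  have hmem : ∀ x, x ∈ A ↔ x = 1 ∨ x = a ∨ x = b ∨ x = a * b := fun x => Iff.rfl
  have hab1 : a * b ≠ 1 := fun h => hab ((mul_eq_one_iff_eq_inv.1 h).trans bi)
  have hA4 : Nat.card A = 4 := by
    have h5 : (A : Set G) = (({1, a, b, a * b} : Finset G) : Set G) := by
      ext x
      simp only [SetLike.mem_coe, hmem, Finset.coe_insert, Finset.coe_singleton, Set.mem_insert_iff,
        Set.mem_singleton_iff]
    have h6 : Nat.card A = (A : Set G).ncard := rfl
    rw [h6, h5, Set.ncard_coe_finset]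
    rw [Finset.card_insert_of_notMem, Finset.card_insert_of_notMem, Finset.card_pair]
    · intro h; exact ha (mul_eq_right.1 h.symm)
    · simp only [Finset.mem_insert, Finset.mem_singleton, not_or]
      exact ⟨hab, fun h => hb (mul_eq_left.1 h.symm)⟩
    · simp only [Finset.mem_insert, Finset.mem_singleton, not_or]
      exact ⟨ha.symm, hb.symm, hab1.symm⟩
  have hcomm : IsMulCommutative A := ⟨⟨by
    rintro ⟨x, hx⟩ ⟨y, hy⟩
    apply Subtype.ext
    change x * y = y * x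
    rcases (hmem x).1 hx with rfl | rfl | rfl | rfl <;> rcases (hmem y).1 hy with rfl | rfl | rfl | rfl <;>
      simp only [one_mul, mul_one, aa, bb, hba, e1, e2, e3, e4, e5]⟩⟩
  have hsq : ∀ x ∈ A, x * x = 1 := by
    intro x hx
    rcases (hmem x).1 hx with rfl | rfl | rfl | rfl
    · exact mul_one 1
    · exact aa
    · exact bb
    · exact e5
  have hcyc : ¬ IsCyclic A := by
    intro hc
    obtain ⟨g, hg⟩ := hc.exists_generator
    have h5 : orderOf g = Nat.card A := orderOf_eq_card_of_forall_mem_zpowers hg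
    have h6 : orderOf g ∣ 2 := orderOf_dvd_of_pow_eq_one (by
      rw [pow_two]; exact Subtype.ext (hsq g g.2))
    rw [h5, hA4] at h6
    exact absurd h6 (by norm_num)
  have hconj : ∀ x ∈ A, ∀ y ∈ K, x * y * x⁻¹ ∈ K := by
    intro x hx y hy
    rcases (hmem x).1 hx with rfl | rfl | rfl | rfl
    · simpa using hy
    · exact hKa y hy
    · exact hKb y hy
    · have := hKa _ (hKb y hy)
      have h7 : a * b * y * (a * b)⁻¹ = a * (b * y * b⁻¹) * a⁻¹ := by group
      rw [h7]; exact this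
  have hnorm : A ≤ normalizer (K : Set G) := by
    intro x hx
    rw [mem_normalizer_iff]
    intro y
    refine ⟨hconj x hx y, fun hy => ?_⟩
    have h7 := hconj x⁻¹ (A.inv_mem hx) _ hy
    have h8 : x⁻¹ * (x * y * x⁻¹) * x⁻¹⁻¹ = y := by group
    rwa [h8] at h7
  have hcop : (Nat.card A).Coprime (Nat.card K) := by
    rw [hA4]
    have : (4 : ℕ) = 2 ^ 2 := by norm_num
    rw [this]
    exact Nat.Coprime.pow_left 2 (Nat.coprime_two_left.2 hK)
  have hgen := Cfsg.Agent.S0058.result A K hcyc hnorm hcop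
  rw [← hgen]
  refine iSup₂_le ?_
  rintro x ⟨hxA, hx1⟩ y ⟨hyK, hyx⟩
  have hyx' := mem_cent.1 hyx
  rcases (hmem x).1 hxA with rfl | rfl | rfl | rfl
  · exact absurd rfl hx1
  · exact h1 y hyK hyx'
  · exact h2 y hyK hyx'
  · exact h3 y hyK hyx'

/-- Involutions whose product has odd order are conjugate under a power of the product. -/
theorem exists_conj_of_odd {x y : G} (xx : x * x = 1) (yy : y * y = 1) (ho : Odd (orderOf (x * y))) :
    ∃ k ∈ zpowers (x * y), k * x * k⁻¹ = y := by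
  obtain ⟨m, hm⟩ := ho
  set r := x * y with hr
  have hxi : x⁻¹ = x := inv_of_sq xx
  have hyi : y⁻¹ = y := inv_of_sq yy
  have hinv : x * r * x⁻¹ = r⁻¹ := by
    rw [hr, mul_inv_rev, hxi, hyi]
    calc x * (x * y) * x = x * x * (y * x) := by group
      _ = y * x := by rw [xx, one_mul]
  have hpow : ∀ k : ℕ, x * r ^ k * x⁻¹ = (r ^ k)⁻¹ := fun k => by
    rw [← conj_pow, hinv, inv_pow]
  refine ⟨r ^ m, pow_mem (mem_zpowers r) m, ?_⟩
  have h1 : r ^ (2 * m + 1) = 1 := by rw [← hm]; exact pow_orderOf_eq_one r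
  -- `r ^ m x r ^ (-m) = x r^(-2 m) = x r = y`
  have h2 : r ^ m * x = x * (r ^ m)⁻¹ := by
    have := hpow m
    rw [hxi] at this
    rw [← this]
    calc r ^ m * x = (x * x) * (r ^ m * x) := by rw [xx, one_mul]
      _ = x * (x * r ^ m * x) := by group
  have h3 : (r ^ m)⁻¹ * (r ^ m)⁻¹ = r := by
    rw [← mul_inv_rev, ← pow_add, inv_eq_iff_mul_eq_one, ← pow_succ]
    rw [← h1]; congr 1; omega
  rw [h2, mul_assoc, h3, hr, ← mul_assoc, xx, one_mul]

theorem odd_card_of_forall [Finite G] (K : Subgroup G) (h : ∀ x ∈ K, Odd (orderOf x)) :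
    Odd (Nat.card K) := by
  by_contra hcon
  rw [Nat.not_odd_iff_even, even_iff_two_dvd] at hcon
  have : Fact (Nat.Prime 2) := ⟨Nat.prime_two⟩
  obtain ⟨x, hx⟩ := exists_prime_orderOf_dvd_card' 2 hcon
  have h1 := h x x.2
  rw [Subgroup.orderOf_coe, hx] at h1
  exact absurd h1 (by decide)

theorem odd_orderOf [Finite G] {K : Subgroup G} (h : Odd (Nat.card K)) {x : G} (hx : x ∈ K) :
    Odd (orderOf x) := by
  have h1 := orderOf_dvd_natCard (⟨x, hx⟩ : K)
  rw [Subgroup.orderOf_mk] at h1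
  exact Odd.of_dvd_nat h h1

theorem eq_one_of_odd_of_sq {x : G} (h : Odd (orderOf x)) (hx : x * x = 1) : x = 1 := by
  have h1 : orderOf x ∣ 2 := orderOf_dvd_of_pow_eq_one (by rw [pow_two, hx])
  have h2 : orderOf x = 1 := by
    rcases (Nat.dvd_prime Nat.prime_two).1 h1 with h3 | h3
    · exact h3
    · rw [h3] at h; exact absurd h (by decide)
  exact orderOf_eq_one_iff.1 h2

end general

namespace Good

variable {X : Type*} [Group X] {ζ : X}

/-- A subgroup of odd order normalised by an elementary abelian group of order 16 is trivial. -/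
theorem eq_one [Finite X] (h : Good X ζ) {V Y : Subgroup X} (hV : ESixteen V) (hY : Odd (Nat.card Y))
    (hinv : ∀ v ∈ V, ∀ y ∈ Y, v * y * v⁻¹ ∈ Y) : ∀ y ∈ Y, y = 1 := by
  -- first step: centralisers of non-central involutions
  have key : ∀ u ∈ V, u ≠ 1 → u ≠ ζ → ∀ y ∈ Y, y * u = u * y → y = 1 := by
    intro u hu hu1 huz
    obtain ⟨c, hc, hcl⟩ := exists_notMem hV.card [1, ζ, u, u * ζ] (by norm_num)
    simp only [List.mem_cons, List.not_mem_nil, or_false, not_or] at hcl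
    obtain ⟨hc1, hcz, hcu, hcuz⟩ := hcl
    obtain ⟨d, hd, hdl⟩ := exists_notMem hV.card
      [1, ζ, u, u * ζ, c, c⁻¹ * 1, c⁻¹ * ζ, c⁻¹ * u, c⁻¹ * (u * ζ)] (by norm_num)
    simp only [List.mem_cons, List.not_mem_nil, or_false, not_or] at hdl
    obtain ⟨hd1, hdz, hdu, hduz, hdc, hdc1, hdcz, hdcu, hdcuz⟩ := hdl
    have hcd1 : c * d ≠ 1 := fun h1 => hdc1 (eq_inv_mul_iff_mul_eq.2 h1)
    have hcdz : c * d ≠ ζ := fun h1 => hdcz (eq_inv_mul_iff_mul_eq.2 h1)
    have hcdu : c * d ≠ u := fun h1 => hdcu (eq_inv_mul_iff_mul_eq.2 h1)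
    have hcduz : c * d ≠ u * ζ := fun h1 => hdcuz (eq_inv_mul_iff_mul_eq.2 h1)
    -- `e` outside `⟨ζ, u⟩`
    have hfix : ∀ e ∈ V, e ≠ 1 → e ≠ ζ → e ≠ u → e ≠ u * ζ → ∀ y, Odd (orderOf y) →
        y * u = u * y → y * e = e * y → y = 1 := fun e he he1 hez heu heuz y hy hyu hye =>
      h.fix e u y (hV.sq e he) (hV.sq u hu) (hV.comm e he u hu) he1 hez hu1 huz heu heuz hye hyu hy
    have hle : Y ⊓ centralizer {u} ≤ ⊥ := by
      refine le_of_four (hV.sq c hc) (hV.sq d hd) (hV.comm c hc d hd) hc1 hd1 (Ne.symm hdc) ?_ ?_ ?_ ?_ ?_ ?_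
      · exact Odd.of_dvd_nat hY (card_dvd_of_le inf_le_left)
      · rintro x ⟨hx, hxu⟩
        refine ⟨hinv c hc x hx, mem_cent.2 ?_⟩
        have h1 := mem_cent.1 hxu
        have h2 := hV.comm c hc u hu
        calc c * x * c⁻¹ * u = c * x * (c⁻¹ * (u * c)) * c⁻¹ := by group
          _ = c * x * (c⁻¹ * (c * u)) * c⁻¹ := by rw [h2]
          _ = c * (x * u) * c⁻¹ := by group
          _ = c * u * x * c⁻¹ := by rw [h1]; group
          _ = u * (c * x * c⁻¹) := by rw [h2]; group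
      · rintro x ⟨hx, hxu⟩
        refine ⟨hinv d hd x hx, mem_cent.2 ?_⟩
        have h1 := mem_cent.1 hxu
        have h2 := hV.comm d hd u hu
        calc d * x * d⁻¹ * u = d * x * (d⁻¹ * (u * d)) * d⁻¹ := by group
          _ = d * x * (d⁻¹ * (d * u)) * d⁻¹ := by rw [h2]
          _ = d * (x * u) * d⁻¹ := by group
          _ = d * u * x * d⁻¹ := by rw [h1]; group
          _ = u * (d * x * d⁻¹) := by rw [h2]; group
      · rintro x ⟨hx, hxu⟩ hxc
        exact mem_bot.2 (hfix c hc hc1 hcz hcu hcuz x (odd_orderOf hY hx) (mem_cent.1 hxu) hxc)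
      · rintro x ⟨hx, hxu⟩ hxc
        exact mem_bot.2 (hfix d hd hd1 hdz hdu hduz x (odd_orderOf hY hx) (mem_cent.1 hxu) hxc)
      · rintro x ⟨hx, hxu⟩ hxc
        exact mem_bot.2 (hfix (c * d) (V.mul_mem hc hd) hcd1 hcdz hcdu hcduz x (odd_orderOf hY hx)
          (mem_cent.1 hxu) hxc)
    intro y hy hyu
    exact mem_bot.1 (hle ⟨hy, mem_cent.2 hyu⟩)
  obtain ⟨c, hc, hcl⟩ := exists_notMem hV.card [1, ζ] (by norm_num)
  simp only [List.mem_cons, List.not_mem_nil, or_false, not_or] at hcl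
  obtain ⟨hc1, hcz⟩ := hcl
  obtain ⟨d, hd, hdl⟩ := exists_notMem hV.card [1, ζ, c, c⁻¹ * 1, c⁻¹ * ζ] (by norm_num)
  simp only [List.mem_cons, List.not_mem_nil, or_false, not_or] at hdl
  obtain ⟨hd1, hdz, hdc, hdc1, hdcz⟩ := hdl
  have hcd1 : c * d ≠ 1 := fun h1 => hdc1 (eq_inv_mul_iff_mul_eq.2 h1)
  have hcdz : c * d ≠ ζ := fun h1 => hdcz (eq_inv_mul_iff_mul_eq.2 h1)
  have hle : Y ≤ ⊥ := by
    refine le_of_four (hV.sq c hc) (hV.sq d hd) (hV.comm c hc d hd) hc1 hd1 (Ne.symm hdc) hY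
      (hinv c hc) (hinv d hd) ?_ ?_ ?_
    · intro x hx hxc
      exact mem_bot.2 (key c hc hc1 hcz x hx hxc)
    · intro x hx hxc
      exact mem_bot.2 (key d hd hd1 hdz x hx hxc)
    · intro x hx hxc
      exact mem_bot.2 (key (c * d) (V.mul_mem hc hd) hcd1 hcdz x hx hxc)
  intro y hy
  exact mem_bot.1 (hle hy)

/-- A normal subgroup of odd order is trivial. -/
theorem eq_one_of_normal [Finite X] (h : Good X ζ) {Y : Subgroup X} (hY : Odd (Nat.card Y))
    (hinv : ∀ v : X, ∀ y ∈ Y, v * y * v⁻¹ ∈ Y) : ∀ y ∈ Y, y = 1 := by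
  obtain ⟨V, h1, h2, h3, -⟩ := h.four
  exact h.eq_one ⟨h1, h2, h3⟩ hY fun v _ => hinv v

end Good

end Cfsg.Agent.CoverCore.Abs
end
end
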